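import Cfsg.Agent.Lib.Linear.FrameSmall.Std

/-!
# Certificates for the class in small characteristic

A class vector is recorded by its residues.  The multiset of the squares of the residues decides
membership, and the closure under reflections is followed along a list of steps.
-/

set_option autoImplicit false

namespace Cfsg.Lib.Linear.FrameSmall

open Module Cfsg.Lib.Linear.Orth
open scoped Matrix

/-- The numbers of residues with each square. -/
def key (p n : ℕ) (k : Fin n → ℕ) : List ℕ :=
  (List.range p).map fun r => (Finset.univ.filter fun i => k i ^ 2 % p = r).card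

/-- The residues in a list. -/
def res (n : ℕ) (l : List ℕ) : Fin n → ℕ := fun i => l.getD i.val 0

/-- `w` is the reflection of `v` in `u`. -/
def StepOK (p n : ℕ) (u v w : List ℕ) : Prop :=
  ∀ i : Fin n, (res n v i + 2 * (∑ j, res n u j * res n v j) * (p - 1) * res n u i) % p =
    res n w i % p

instance (p n : ℕ) (u v w : List ℕ) : Decidable (StepOK p n u v w) :=
  inferInstanceAs (Decidable (∀ i : Fin n, _))

/-- Follow a list of steps. -/
def run (p n : ℕ) : List (List ℕ) → List (List ℕ × List ℕ × List ℕ) → List (List ℕ)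
  | K, [] => K
  | K, (u, v, w) :: rest =>
    if key p n (res n u) ∈ K ∧ key p n (res n v) ∈ K ∧ StepOK p n u v w then
      run p n (key p n (res n w) :: K) rest
    else run p n K rest

/-- The lists of length `m` of sum `n`. -/
def comps : ℕ → ℕ → List (List ℕ)
  | 0, n => if n = 0 then [[]] else []
  | m + 1, n => (List.range (n + 1)).flatMap fun a => (comps m (n - a)).map (a :: ·)

theorem mem_comps : ∀ {c : List ℕ} {n : ℕ}, c.sum = n → c ∈ comps c.length n := by
  intro c
  induction c with
  | nil => intro n h; simp at h; simp [comps, ← h]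
  | cons a c ih =>
    intro n h
    rw [List.sum_cons] at h
    simp only [List.length_cons, comps, List.mem_flatMap, List.mem_range, List.mem_map]
    exact ⟨a, by omega, c, ih (by omega), rfl⟩

theorem key_length (p n : ℕ) (k : Fin n → ℕ) : (key p n k).length = p := by simp [key]

theorem key_get {p n : ℕ} (k : Fin n → ℕ) {r : ℕ} (hr : r < p) :
    (key p n k).getD r 0 = (Finset.univ.filter fun i => k i ^ 2 % p = r).card := by
  simp [key, List.getD_eq_getElem?_getD, hr]

theorem sum_map_range (p : ℕ) (f : ℕ → ℕ) :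
    ((List.range p).map f).sum = ∑ r ∈ Finset.range p, f r := by
  rw [← List.sum_toFinset _ List.nodup_range, List.toFinset_range]

theorem key_mem_comps {p n : ℕ} (hp : 0 < p) (k : Fin n → ℕ) : key p n k ∈ comps p n := by
  have h := mem_comps (c := key p n k) (n := n) (by
    rw [key, sum_map_range, ← Finset.card_eq_sum_card_fiberwise
      (fun i _ => Finset.mem_range.mpr (Nat.mod_lt _ hp)), Finset.card_univ, Fintype.card_fin])
  rwa [key_length] at h

theorem key_weight {p n : ℕ} (hp : 0 < p) (k : Fin n → ℕ) :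
    (∑ r ∈ Finset.range p, r * (key p n k).getD r 0) % p = (∑ i, k i ^ 2) % p := by
  conv_rhs => rw [Finset.sum_nat_mod, ← Finset.sum_fiberwise_of_maps_to
    (g := fun i => k i ^ 2 % p) (t := Finset.range p)
    (fun i _ => Finset.mem_range.mpr (Nat.mod_lt _ hp))]
  congr 1
  refine Finset.sum_congr rfl fun r hr => ?_
  rw [key_get k (Finset.mem_range.mp hr), Finset.sum_congr rfl (g := fun _ => r)
    fun i hi => (Finset.mem_filter.mp hi).2, Finset.sum_const, smul_eq_mul, mul_comm]

variable {ι : Type} [Fintype ι] [DecidableEq ι] {F : Type*} [Field F]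
  {Q : (ι → F) → F} {B : LinearMap.BilinForm F (ι → F)}
  {n : ℕ} {e : Fin n → (ι → F)} {ν : F} {H : Subgroup (GL ι F)}

/-- The class contains the vector with the given coordinates. -/
def CV (Q : (ι → F) → F) (B : LinearMap.BilinForm F (ι → F)) (e : Fin n → (ι → F)) (ν : F)
    (H : Subgroup (GL ι F)) (f : Fin n → F) : Prop :=
  ∃ y, Cls Q e ν H y ∧ ∀ l, co B e ν l y = f l

/-- All vectors with this key are in the class. -/
def Good (Q : (ι → F) → F) (B : LinearMap.BilinForm F (ι → F)) (e : Fin n → (ι → F)) (ν : F)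
    (H : Subgroup (GL ι F)) (p : ℕ) (κ : List ℕ) : Prop :=
  ∀ k : Fin n → ℕ, key p n k = κ → CV Q B e ν H fun i => (k i : F)

section Ctx

variable [Finite F] (T : Ctx Q B e ν H)

include T

theorem CV.signs {f g : Fin n → F} (h : CV Q B e ν H f) (hs : ∀ l, g l ^ 2 = f l ^ 2) :
    CV Q B e ν H g := by
  classical
  obtain ⟨y, hy, hyc⟩ := h
  obtain ⟨z, hz, hzc⟩ := hy.flips T (Finset.univ.filter fun l => g l ≠ f l)
  refine ⟨z, hz, fun l => ?_⟩
  rw [hzc, hyc]
  by_cases hl : g l = f l
  · rw [if_neg (by simp [hl]), hl]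
  · rw [if_pos (by simp [hl])]
    exact ((sq_eq_sq_iff_eq_or_eq_neg.mp (hs l)).resolve_left hl).symm

theorem CV.double {f : Fin n → F} (h : CV Q B e ν H f) {a b c d : Fin n} (hab : a ≠ b)
    (hcd : c ≠ d) (hac : a ≠ c) (had : a ≠ d) (hbc : b ≠ c) (hbd : b ≠ d) :
    CV Q B e ν H fun l => f (Equiv.swap a b (Equiv.swap c d l)) := by
  obtain ⟨y, hy, hyc⟩ := h
  obtain ⟨z, hz, hzc⟩ := T.swap hy hab hcd hac had hbc hbd
  refine ⟨z, hz, fun l => ?_⟩
  rw [hzc, hyc, hyc, hyc, hyc, hyc]
  simp only [Equiv.swap_apply_def]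
  split_ifs <;> simp_all

/-- One transposition, in the presence of two equal squares. -/
theorem CV.transp {f : Fin n → F} (h : CV Q B e ν H f) {k l : Fin n} (hkl : k ≠ l)
    (heq : f k ^ 2 = f l ^ 2) {a b : Fin n} (hab : a ≠ b) :
    CV Q B e ν H fun q => f (Equiv.swap a b q) := by
  have hn := T.frame.big
  -- the pair `{k, l}` disjoint from `{a, b}`
  have base : ∀ {f : Fin n → F} {k l a b : Fin n}, CV Q B e ν H f → k ≠ l → f k ^ 2 = f l ^ 2 →
      a ≠ b → a ≠ k → a ≠ l → b ≠ k → b ≠ l → CV Q B e ν H fun q => f (Equiv.swap a b q) := by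
    intro f k l a b h hkl heq hab h1 h2 h3 h4
    refine (h.double T hab hkl h1 h2 h3 h4).signs T fun q => ?_
    simp only [Equiv.swap_apply_def]
    split_ifs <;> simp_all
  by_cases hd : a ≠ k ∧ a ≠ l ∧ b ≠ k ∧ b ≠ l
  · exact base h hkl heq hab hd.1 hd.2.1 hd.2.2.1 hd.2.2.2
  by_cases hsame : (a = k ∧ b = l) ∨ (a = l ∧ b = k)
  · refine h.signs T fun q => ?_
    simp only [Equiv.swap_apply_def]
    rcases hsame with ⟨rfl, rfl⟩ | ⟨rfl, rfl⟩ <;> split_ifs <;> simp_all
  -- one common index: a three-cycle fixing the squares up to the transposition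
  have one : ∀ {k l a b : Fin n}, k ≠ l → f k ^ 2 = f l ^ 2 → a = k → b ≠ k → b ≠ l →
      CV Q B e ν H fun q => f (Equiv.swap a b q) := by
    intro k l a b hkl heq hak hbk hbl
    subst hak
    obtain ⟨o, m, ho, hm, hom⟩ : ∃ o m : Fin n, (o ≠ a ∧ o ≠ b ∧ o ≠ l) ∧ (m ≠ a ∧ m ≠ b ∧ m ≠ l) ∧
        o ≠ m := by
      obtain ⟨o, ho⟩ := exists_outside (S := ({a, b, l} : Finset (Fin n))) (by
        have := Finset.card_le_three (a := a) (b := b) (c := l); omega)
      obtain ⟨m, hm⟩ := exists_outside (S := ({a, b, l, o} : Finset (Fin n))) (by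
        have := Finset.card_le_four (a := a) (b := b) (c := l) (d := o); omega)
      simp only [Finset.mem_insert, Finset.mem_singleton, not_or] at ho hm
      exact ⟨o, m, ho, ⟨hm.1, hm.2.1, hm.2.2.1⟩, Ne.symm hm.2.2.2⟩
    refine ((h.double T (a := a) (b := l) (c := o) (d := m) hkl hom ho.1.symm hm.1.symm
      ho.2.2.symm hm.2.2.symm).double T (a := a) (b := b) (c := o) (d := m) hbk.symm hom
      ho.1.symm hm.1.symm ho.2.1.symm hm.2.1.symm).signs T fun q => ?_
    simp only [Equiv.swap_apply_def]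
    by_cases qa : q = a
    · subst qa
      simp [hbk, hbk.symm, hbl, ho.1.symm, hm.1.symm, ho.2.1.symm, hm.2.1.symm]
    by_cases qb : q = b
    · subst qb
      simp [hbk, hkl, ho.1.symm, hm.1.symm, ho.2.1.symm, hm.2.1.symm, heq]
    by_cases qo : q = o
    · subst qo
      simp [ho.1, ho.2.1, ho.2.2, hm.1, hm.2.1, hm.2.2, hom.symm]
    by_cases qm : q = m
    · subst qm
      simp [ho.1, ho.2.1, ho.2.2, hm.1, hm.2.1, hm.2.2, hom, hom.symm]
    by_cases ql : q = l
    · subst ql
      simp [qa, qb, qo, qm, heq, ho.1.symm, hm.1.symm]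
    simp [qa, qb, qo, qm, ql]
  push Not at hd hsame
  by_cases h1 : a = k
  · exact one hkl heq h1 (fun hb => hab (h1.trans hb.symm)) (fun hb => hsame.1 h1 hb)
  by_cases h2 : a = l
  · exact one hkl.symm heq.symm h2 (fun hb => hab (h2.trans hb.symm)) (fun hb => hsame.2 h2 hb)
  rw [Equiv.swap_comm]
  by_cases h3 : b = k
  · exact one hkl heq h3 h1 h2
  · exact one hkl.symm heq.symm (hd h1 h2 h3) h2 h1

/-- The multiset of the squares decides. -/
theorem CV.same_squares (hpig : ∀ f : Fin n → F, ∃ k l, k ≠ l ∧ f k ^ 2 = f l ^ 2)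
    {f g : Fin n → F}
    (h : CV Q B e ν H f)
    (hc : ∀ r : F, ∀ [DecidableEq F], (Finset.univ.filter fun i => f i ^ 2 = r).card =
      (Finset.univ.filter fun i => g i ^ 2 = r).card) : CV Q B e ν H g := by
  classical
  suffices key : ∀ m, ∀ f, (Finset.univ.filter fun i => f i ^ 2 ≠ g i ^ 2).card ≤ m →
      (∀ r : F, (Finset.univ.filter fun i => f i ^ 2 = r).card =
        (Finset.univ.filter fun i => g i ^ 2 = r).card) → CV Q B e ν H f → CV Q B e ν H g from
    key _ f le_rfl (fun r => hc r) h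
  intro m
  induction m with
  | zero =>
    intro f hm _ hf
    refine hf.signs T fun l => ?_
    by_contra hl
    exact (Finset.notMem_empty l) (Finset.card_eq_zero.mp (Nat.le_zero.mp hm) ▸
      Finset.mem_filter.mpr ⟨Finset.mem_univ l, fun h => hl h.symm⟩)
  | succ m ih =>
    intro f hm hc hf
    by_cases h0 : ∀ i, f i ^ 2 = g i ^ 2
    · exact hf.signs T fun l => (h0 l).symm
    push Not at h0
    obtain ⟨i, hi⟩ := h0
    obtain ⟨j, hj, hj'⟩ : ∃ j, f j ^ 2 = g i ^ 2 ∧ g j ^ 2 ≠ g i ^ 2 := by
      by_contra hne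
      push Not at hne
      have hsub : (Finset.univ.filter fun q => f q ^ 2 = g i ^ 2) ⊆
          (Finset.univ.filter fun q => g q ^ 2 = g i ^ 2).erase i := fun q hq => by
        simp only [Finset.mem_filter, Finset.mem_univ, true_and] at hq
        simp only [Finset.mem_erase, Finset.mem_filter, Finset.mem_univ, true_and]
        exact ⟨fun e => hi (e ▸ hq), hne q hq⟩
      have h1 := Finset.card_le_card hsub
      rw [Finset.card_erase_of_mem (by simp), hc] at h1
      have : 0 < (Finset.univ.filter fun q => g q ^ 2 = g i ^ 2).card :=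
        Finset.card_pos.mpr ⟨i, by simp⟩
      omega
    have hij : i ≠ j := fun e => hj' (e ▸ rfl)
    obtain ⟨k, l, hkl, hkl'⟩ := hpig f
    refine ih (fun q => f (Equiv.swap i j q)) ?_ (fun r => ?_) (hf.transp T hkl hkl' hij)
    · have hsub : (Finset.univ.filter fun q => f (Equiv.swap i j q) ^ 2 ≠ g q ^ 2) ⊆
          (Finset.univ.filter fun q => f q ^ 2 ≠ g q ^ 2).erase i := fun q hq => by
        simp only [Finset.mem_filter, Finset.mem_univ, true_and] at hq
        simp only [Finset.mem_erase, Finset.mem_filter, Finset.mem_univ, true_and]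
        by_cases q1 : q = i
        · subst q1; rw [Equiv.swap_apply_left] at hq; exact absurd hj hq
        by_cases q2 : q = j
        · subst q2
          exact ⟨q1, fun e => hj' (e.symm.trans hj)⟩
        rw [Equiv.swap_apply_of_ne_of_ne q1 q2] at hq
        exact ⟨q1, hq⟩
      have h1 := Finset.card_le_card hsub
      rw [Finset.card_erase_of_mem (by simpa using hi)] at h1
      omega
    · rw [← hc r]
      exact Finset.card_bij (fun q _ => Equiv.swap i j q)
        (fun q hq => by simpa using hq) (fun a _ b _ h => (Equiv.swap i j).injective h)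
        (fun q hq => ⟨Equiv.swap i j q, by simpa using hq, by simp⟩)

variable (p : ℕ) [Fact p.Prime] [CharP F p]

theorem CV.of_key (hpig : ∀ f : Fin n → F, ∃ k l, k ≠ l ∧ f k ^ 2 = f l ^ 2) {k k' : Fin n → ℕ}
    (h : CV Q B e ν H fun i => (k i : F)) (he : key p n k = key p n k') :
    CV Q B e ν H fun i => (k' i : F) := by
  classical
  refine h.same_squares T hpig fun r => ?_
  intro hdec
  have hp := (Fact.out : p.Prime).pos
  obtain ⟨m, rfl⟩ := T.prime r
  have hiff : ∀ (k : Fin n → ℕ) i, ((k i : F)) ^ 2 = (m : F) ↔ k i ^ 2 % p = m % p := fun k i => by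
    rw [← Nat.cast_pow, CharP.natCast_eq_natCast F p]
    exact Iff.rfl
  simp only [hiff]
  have h' := congrArg (fun c => c.getD (m % p) 0) he
  simpa only [key_get _ (Nat.mod_lt m hp)] using h'

theorem Good.of_cv (hpig : ∀ f : Fin n → F, ∃ k l, k ≠ l ∧ f k ^ 2 = f l ^ 2) {k : Fin n → ℕ}
    (h : CV Q B e ν H fun i => (k i : F)) : Good Q B e ν H p (key p n k) :=
  fun _ hk => h.of_key T p hpig hk.symm

theorem run_good (hpig : ∀ f : Fin n → F, ∃ k l, k ≠ l ∧ f k ^ 2 = f l ^ 2)
    (steps : List (List ℕ × List ℕ × List ℕ)) :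
    ∀ K : List (List ℕ), (∀ κ ∈ K, Good Q B e ν H p κ) →
      ∀ κ ∈ run p n K steps, Good Q B e ν H p κ := by
  induction steps with
  | nil => exact fun K hK κ hκ => hK κ hκ
  | cons s rest ih =>
    obtain ⟨u, v, w⟩ := s
    intro K hK κ hκ
    unfold run at hκ
    split_ifs at hκ with hc
    · refine ih _ (fun κ' hκ' => ?_) κ hκ
      rcases List.mem_cons.mp hκ' with rfl | hκ'
      · obtain ⟨h1, h2, hstep⟩ := hc
        obtain ⟨y, hy, hyc⟩ := hK _ h1 _ rfl
        obtain ⟨z, hz, hzc⟩ := hK _ h2 _ rfl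
        refine Good.of_cv T p hpig ⟨_, hy.refl T hz, fun i => ?_⟩
        have h := congrArg (fun m : ℕ => (m : F)) (hstep i)
        simp only [← CharP.cast_eq_mod F p] at h
        push_cast [Nat.cast_sub (Fact.out : p.Prime).one_le] at h
        rw [CharP.cast_eq_zero F p] at h
        rw [rGL_act T.frame.space (hy.1 ▸ T.frame.nu), co_sub, co_smul, T.frame.B_co, hy.1]
        simp only [hyc, hzc]
        have := T.frame.nu
        field_simp
        linear_combination h
      · exact hK κ' hκ'
    · exact ih K hK κ hκ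

end Ctx

end Cfsg.Lib.Linear.FrameSmall
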