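import Cfsg.Agent.Lib.Linear.FrameSmall.Maps
import Cfsg.Agent.Lib.Linear.OrthBlocksOf
import Cfsg.Agent.Lib.Linear.OrthSplitMax

/-!
# The stabiliser of a frame in dimension five is maximal in `Ω` over a field of odd prime order
-/

set_option autoImplicit false

namespace Cfsg.Lib.Linear.FrameSmall

open Module Cfsg.Lib.Linear.Orth
open scoped Matrix

variable {ι : Type} [Fintype ι] [DecidableEq ι] {F : Type*} [Field F]
  {Q : (ι → F) → F} {B : LinearMap.BilinForm F (ι → F)}
  {n : ℕ} {e : Fin n → (ι → F)} {ν : F}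

/-- The stabiliser of a frame is maximal. -/
theorem Frame.maximal [Fintype F] (X : Frame Q B e ν)
    (hpr : ∀ c : F, ∃ m : ℕ, c = (m : F))
    (hstab : ∀ H : Subgroup (GL ι F), Ctx Q B e ν H → ¬ Cfsg.Geo.omegaGL Q ≤ H →
      H ≤ Cfsg.Geo.decompositionStabilizer (fun i => Submodule.span F {e i})) :
    Cfsg.Geo.IsMaximalIn (Cfsg.Geo.omegaGL Q)
      (Cfsg.Geo.decompositionStabilizer (fun i => Submodule.span F {e i}) ⊓ Cfsg.Geo.omegaGL Q) := by
  classical
  have C := X.space
  have hn := X.big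
  have hO := omegaGL_eq C X.five
  refine ⟨lt_of_le_of_ne inf_le_right fun heq => ?_, fun H hLH hHΩ => ?_⟩
  · set a : Fin n := ⟨0, by omega⟩
    set A := Submodule.span F (Set.range fun q : {q : Fin n // q ≠ a} => e q.1) with hA
    have hA3 : 3 ≤ finrank F A := by
      have hli : LinearIndependent F (fun q : {q : Fin n // q ≠ a} => e q.1) :=
        X.indep.comp _ Subtype.val_injective
      rw [hA, finrank_span_eq_card hli, Fintype.card_subtype_compl,
        Fintype.card_subtype_eq, Fintype.card_fin]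
      omega
    obtain ⟨u, hu, hu0, hQu⟩ := Sing.exists_singular C.smul C.polar A hA3
    have hau : co B e ν a u = 0 := by
      have hker : A ≤ LinearMap.ker (B (e a)) := Submodule.span_le.mpr (by
        rintro _ ⟨q, rfl⟩
        exact LinearMap.mem_ker.mpr (X.orth a q.1 q.2.symm))
      have h := LinearMap.mem_ker.mp (hker hu)
      rw [X.B_e] at h
      exact (mul_eq_zero.mp h).resolve_left X.two_nu
    have hB : B (e a) u = 0 := by rw [X.B_e, hau, mul_zero]
    have hQ : Q (e a) = Q (e a + u) := by rw [C.add, hQu, hB, add_zero, add_zero]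
    have hne : ∀ {v : ι → F}, Q v = ν → v ≠ 0 := fun {v} h h0 => X.nu (by rw [← h, h0, C.zero])
    obtain ⟨g, hg, hge⟩ := trans_top C X.five (hne (X.norm a)) (hne (hQ ▸ X.norm a)) hQ
    rw [← hO, ← heq] at hg
    obtain ⟨π, hπ⟩ := Frame.of_stab (e := e) hg.1
    obtain ⟨s, hs⟩ := hπ a
    rw [hge] at hs
    have h1 := congrArg (co B e ν a) hs
    rw [co_add, hau, co_smul, X.co_e, X.co_e, if_pos rfl, add_zero] at h1
    by_cases hp : π a = a
    · rw [hp, if_pos rfl, mul_one] at h1
      rw [hp, ← h1, one_smul] at hs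
      exact hu0 (by simpa using hs)
    · rw [if_neg (Ne.symm hp), mul_zero] at h1
      exact one_ne_zero h1
  have hHI : H ≤ isometryGroup F Q := hHΩ.trans (hO ▸ root_le_iso C _)
  have T : Ctx Q B e ν H := ⟨X, hHI, hLH, hpr⟩
  by_cases hno : Cfsg.Geo.omegaGL Q ≤ H
  · exact Or.inr (le_antisymm hHΩ hno)
  · exact Or.inl (le_antisymm (fun g hg => ⟨hstab H T hno hg, hHΩ hg⟩) hLH)

/-- A decomposition into lines of one square class is spanned by a frame. -/
theorem exists_frame [Fintype F] (C : Space Q B) (h2 : (2 : F) ≠ 0)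
    (h13 : Fintype.card ι = 5 ∨ Fintype.card ι = 6)
    {t : ℕ} {D : Fin t → Submodule F (ι → F)}
    (hD : Cfsg.Geo.IsOrthogonalMDecomposition Q 1 D) :
    ∃ (e : Fin t → ι → F) (ν : F), Frame Q B e ν ∧ D = fun i => Submodule.span F {e i} := by
  have hc := decomp_card hD.decomp.decomp
  rw [mul_one] at hc
  let i0 : Fin t := ⟨0, by omega⟩
  obtain ⟨v, hv, hv0⟩ := Submodule.exists_mem_ne_zero_of_ne_bot (p := D i0) fun h => by
    have := hD.decomp.decomp.finrank_eq i0
    rw [h, finrank_bot] at this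
    omega
  choose f hf using fun i => hD.isometric i0 i
  let e : Fin t → ι → F := fun i => (f i ⟨v, hv⟩ : ι → F)
  have hQ : ∀ i, Q (e i) = Q v := fun i => hf i _
  have hem : ∀ i, e i ∈ D i := fun i => (f i ⟨v, hv⟩).2
  have he0 : ∀ i, e i ≠ 0 := fun i h => hv0 (by
    have h' := (f i).injective (a₁ := ⟨v, hv⟩) (a₂ := 0) (by
      rw [map_zero]; exact Subtype.ext h)
    exact congrArg Subtype.val h')
  have hspan : ∀ i, D i = Submodule.span F {e i} := fun i =>
    (Submodule.eq_of_le_of_finrank_eq ((Submodule.span_singleton_le_iff_mem _ _).mpr (hem i))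
      (by rw [finrank_span_singleton (he0 i), hD.decomp.decomp.finrank_eq i])).symm
  have hν : Q v ≠ 0 := fun h0 => he0 i0 (ndeg_of_geo C (hD.decomp.nondegenerate i0) _ (hem i0)
    fun y hy => by
      rw [hspan i0] at hy
      obtain ⟨c, rfl⟩ := Submodule.mem_span_singleton.mp hy
      rw [map_smul, C.self, hQ, h0, mul_zero, smul_zero])
  refine ⟨e, Q v, ⟨C, h2, hQ, hν, fun i j h => ?_, by omega, hc⟩, funext hspan⟩
  rw [← C.polar]
  exact hD.decomp.orthogonal i j h _ (hem i) _ (hem j)

/-- The stabiliser of a decomposition into lines is maximal over a field of odd prime order. -/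
theorem lines_maximal_five [Fintype F] (C : Space Q B) (hodd : Odd (Fintype.card F))
    (hprime : (Fintype.card F).Prime) (h2 : (2 : F) ≠ 0) (h13 : Fintype.card ι = 5) {t : ℕ}
    {D : Fin t → Submodule F (ι → F)} (hD : Cfsg.Geo.IsOrthogonalMDecomposition Q 1 D) :
    Cfsg.Geo.IsMaximalIn (Cfsg.Geo.omegaGL Q)
      (Cfsg.Geo.decompositionStabilizer D ⊓ Cfsg.Geo.omegaGL Q) := by
  haveI := Fact.mk hprime
  haveI : CharP F (Fintype.card F) := by
    obtain ⟨p, hp⟩ := CharP.exists F
    haveI := hp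
    obtain ⟨k, hpp, hk⟩ := FiniteField.card F p
    rw [hk] at hprime
    have hk1 : (k : ℕ) = 1 := (Nat.Prime.pow_eq_iff hprime).mp rfl |>.2
    rwa [hk, hk1, pow_one]
  have hpr : ∀ c : F, ∃ m : ℕ, c = (m : F) := fun c => by
    obtain ⟨z, rfl⟩ := ((Fintype.bijective_iff_injective_and_card _).mpr
      ⟨(ZMod.castHom (dvd_refl (Fintype.card F)) F).injective, ZMod.card _⟩).2 c
    exact ⟨z.val, by rw [map_natCast (ZMod.castHom (dvd_refl (Fintype.card F)) F) z.val |>.symm,
      ZMod.natCast_zmod_val]⟩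
  obtain ⟨e, ν, X, rfl⟩ := exists_frame C h2 (Or.inl h13) hD
  exact X.maximal hpr fun H T hno =>
    T.le_stab_five hno (Fintype.card F) (X.card.symm.trans h13)

end Cfsg.Lib.Linear.FrameSmall
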