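import Cfsg.Agent.Lib.Linear.FrameSmall.Spread

/-!
# The class in characteristic at least eleven
-/

set_option autoImplicit false

namespace Cfsg.Lib.Linear.FrameSmall

open Module Cfsg.Lib.Linear.Orth
open scoped Matrix

variable {ι : Type} [Fintype ι] [DecidableEq ι] {F : Type*} [Field F]
  {Q : (ι → F) → F} {B : LinearMap.BilinForm F (ι → F)}
  {n : ℕ} {e : Fin n → (ι → F)} {ν : F} {H : Subgroup (GL ι F)}

theorem val_out {x : ι → F} {q : Fin n} (hq : q ∉ supp B e ν x) : val B e ν q x = 0 := by
  rw [val, not_mem_supp.mp hq]; ring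

section Ctx

variable [Finite F] (T : Ctx Q B e ν H) (hΩ : ¬ Cfsg.Geo.omegaGL Q ≤ H)
  (p : ℕ) [Fact p.Prime] [CharP F p] (hp : 11 ≤ p)

include T hΩ hp

theorem Ctx.two_std {x : ι → F} (hx : Cls Q e ν H x) (h2 : (supp B e ν x).card = 2) {i : Fin n}
    (hi : i ∈ supp B e ν x) : val B e ν i x = 2 := by
  classical
  have X := T.frame
  have hn := X.big
  obtain ⟨a, b, hab, hS⟩ := Finset.card_eq_two.mp h2
  have hsum : val B e ν a x + val B e ν b x = 4 := by
    rw [← X.sum_val hx.1, hS, Finset.sum_pair hab]
  have key : ∀ {i l : Fin n}, i ≠ l → supp B e ν x = {i, l} →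
      val B e ν i x = 1 ∨ val B e ν i x = 2 := by
    intro i l hil hS
    have hi : i ∈ supp B e ν x := by rw [hS]; simp
    have hl : l ∈ supp B e ν x := by rw [hS]; simp
    obtain ⟨j, hj⟩ := exists_outside (S := ({i, l} : Finset (Fin n))) (by
      have := Finset.card_le_two (a := i) (b := l); omega)
    obtain ⟨k, m, hk, hm, hkm⟩ := exists_two_outside (S := ({i, l, j} : Finset (Fin n))) (by
      have := Finset.card_le_three (a := i) (b := l) (c := j); omega)
    simp only [Finset.mem_insert, Finset.mem_singleton, not_or] at hj hk hm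
    have v0 : ∀ q, q ≠ i → q ≠ l → val B e ν q x = 0 := fun q h1 h2 =>
      val_out (by rw [hS]; simp [h1, h2])
    have hD : val B e ν i x + val B e ν j x ≠ 4 := by
      rw [v0 j hj.1 hj.2, add_zero]
      intro h
      have h' : val B e ν i x + val B e ν l x = 4 := by
        rw [← X.sum_val hx.1, hS, Finset.sum_pair hil]
      exact (supp_val X.four).mp hl (by linear_combination h' - h)
    exact T.g4 p hp hΩ hx (Ne.symm hj.1) hkm (Ne.symm hk.1) (Ne.symm hm.1) (Ne.symm hk.2.2)
      (Ne.symm hm.2.2) (by rw [v0 k hk.1 hk.2.1, v0 m hm.1 hm.2.1]) hD (mem_supp.mp hi)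
  rw [hS, Finset.mem_insert, Finset.mem_singleton] at hi
  rcases key hab hS with h | h <;> rcases key hab.symm (by rw [hS, Finset.pair_comm]) with h' | h'
  · exact absurd (by linear_combination h + h' - hsum) X.two
  · exact absurd (by linear_combination h + h' - hsum) (one_ne_zero (α := F))
  · exact absurd (by linear_combination h + h' - hsum) (one_ne_zero (α := F))
  · rcases hi with rfl | rfl <;> assumption

/-- Three or more coordinates: the values satisfy `v = 1`, `v = 2` or `v² - 3v + 1 = 0`. -/
theorem Ctx.v_quad {x : ι → F} (hx : Cls Q e ν H x) (h3 : 3 ≤ (supp B e ν x).card) {i : Fin n}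
    (hi : i ∈ supp B e ν x) :
    val B e ν i x = 1 ∨ val B e ν i x = 2 ∨ val B e ν i x ^ 2 - 3 * val B e ν i x + 1 = 0 := by
  classical
  have X := T.frame
  set S := supp B e ν x with hS
  obtain ⟨j, hj, hji, hD⟩ : ∃ j ∈ S, j ≠ i ∧ val B e ν i x + val B e ν j x ≠ 4 := by
    by_contra hc
    push Not at hc
    have hsum := X.sum_val hx.1
    rw [← hS, ← Finset.add_sum_erase _ _ hi,
      Finset.sum_congr rfl (g := fun _ => 4 - val B e ν i x) fun q hq => by
        linear_combination hc q (Finset.mem_of_mem_erase hq) (Finset.ne_of_mem_erase hq),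
      Finset.sum_const, nsmul_eq_mul] at hsum
    have hle : S.card ≤ n := (Finset.card_le_univ S).trans (Fintype.card_fin n).le
    have hn := X.big
    have hc' := Finset.card_erase_add_one hi
    obtain ⟨m, hm⟩ : ∃ m, (S.erase i).card = m + 1 := ⟨(S.erase i).card - 1, by omega⟩
    rw [hm] at hsum
    push_cast at hsum
    have h0 : (m : F) * (4 - val B e ν i x) = 0 := by linear_combination hsum
    obtain ⟨q, hq⟩ := Finset.card_pos.mp (show 0 < (S.erase i).card by omega)
    refine (supp_val X.four).mp (Finset.mem_of_mem_erase hq) ?_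
    have h4 : (4 : F) - val B e ν i x = 0 := (mul_eq_zero.mp h0).resolve_left
      (cast_ne p fun h => by have := Nat.le_of_dvd (by omega) h; omega)
    linear_combination hc q (Finset.mem_of_mem_erase hq) (Finset.ne_of_mem_erase hq) + h4
  exact T.g1 p hp hΩ hx hji.symm hD (mem_supp.mp hi) (mem_supp.mp hj)

/-- With an equal pair elsewhere: `1` or `2`. -/
theorem Ctx.v_pair {x : ι → F} (hx : Cls Q e ν H x) (h3 : 3 ≤ (supp B e ν x).card) {i k l : Fin n}
    (hi : i ∈ supp B e ν x) (hkl : k ≠ l) (hki : k ≠ i) (hli : l ≠ i)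
    (heq : val B e ν k x = val B e ν l x) : val B e ν i x = 1 ∨ val B e ν i x = 2 := by
  classical
  have X := T.frame
  have hn := X.big
  obtain ⟨j1, j2, hj1, hj2, hj12⟩ := exists_two_outside (S := ({i, k, l} : Finset (Fin n))) (by
    have := Finset.card_le_three (a := i) (b := k) (c := l); omega)
  simp only [Finset.mem_insert, Finset.mem_singleton, not_or] at hj1 hj2
  by_cases hex : ∃ q, q ≠ i ∧ q ≠ k ∧ q ≠ l ∧ val B e ν i x + val B e ν q x ≠ 4
  · obtain ⟨q, hqi, hqk, hql, hq⟩ := hex
    exact T.g4 p hp hΩ hx hqi.symm hkl hki.symm hli.symm hqk hql heq hq (mem_supp.mp hi)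
  push Not at hex
  have h1 := hex j1 hj1.1 hj1.2.1 hj1.2.2
  have h2 := hex j2 hj2.1 hj2.2.1 hj2.2.2
  by_cases hk : val B e ν i x + val B e ν k x ≠ 4
  · exact T.g4 p hp hΩ hx hki.symm hj12 (Ne.symm hj1.1) (Ne.symm hj2.1) (Ne.symm hj1.2.1)
      (Ne.symm hj2.2.1) (by linear_combination h1 - h2) hk (mem_supp.mp hi)
  push Not at hk
  exfalso
  have hall : ∀ q, q ≠ i → val B e ν q x = 4 - val B e ν i x := fun q hq => by
    by_cases q1 : q = k
    · subst q1; linear_combination hk
    by_cases q2 : q = l
    · subst q2; linear_combination hk - heq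
    linear_combination hex q hq q1 q2
  have hsum : ∑ r, val B e ν r x = 4 := by
    rw [← X.sum_val hx.1]
    exact (Finset.sum_subset (Finset.subset_univ _) fun r _ hr => val_out hr).symm
  rw [← Finset.add_sum_erase _ _ (Finset.mem_univ i),
    Finset.sum_congr rfl (g := fun _ => 4 - val B e ν i x) fun q hq =>
      hall q (Finset.ne_of_mem_erase hq),
    Finset.sum_const, nsmul_eq_mul, Finset.card_erase_of_mem (Finset.mem_univ i), Finset.card_univ,
    Fintype.card_fin] at hsum
  obtain ⟨m, hm, hm2⟩ : ∃ m, n - 1 = m + 1 ∧ (m = 3 ∨ m = 4) := ⟨n - 2, by omega, by omega⟩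
  rw [hm] at hsum
  push_cast at hsum
  have h0 : (m : F) * (4 - val B e ν i x) = 0 := by linear_combination hsum
  have h4 := (mul_eq_zero.mp h0).resolve_left
    (cast_ne p fun h => by have := Nat.le_of_dvd (by omega) h; omega)
  rcases T.v_quad hΩ p hp hx h3 hi with hv | hv | hv
  · exact num_ne (F := F) p 3 (fun hd => by have := Nat.le_of_dvd (by omega) hd; omega)
      (by linear_combination h4 + hv)
  · exact X.two (by linear_combination h4 + hv)
  · exact num_ne (F := F) p 5 (fun hd => by have := Nat.le_of_dvd (by omega) hd; omega)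
      (by linear_combination hv + (val B e ν i x + 1) * h4)

/-- Three or more coordinates: `1` or `2`. -/
theorem Ctx.v12 {x : ι → F} (hx : Cls Q e ν H x) (h3 : 3 ≤ (supp B e ν x).card) {i : Fin n}
    (hi : i ∈ supp B e ν x) : val B e ν i x = 1 ∨ val B e ν i x = 2 := by
  classical
  have X := T.frame
  have hn := X.big
  have hle : (supp B e ν x).card ≤ n := (Finset.card_le_univ _).trans (Fintype.card_fin n).le
  set S := supp B e ν x with hS
  have nd : ∀ {m : ℕ}, 0 < m → m < 11 → ¬ p ∣ m := fun hm hm' h => by
    have := Nat.le_of_dvd hm h; omega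
  by_cases h4 : S.card = 3
  · obtain ⟨k, l, hk, hl, hkl⟩ := exists_two_outside (S := S) (by omega)
    exact T.v_pair hΩ p hp hx h3 hi hkl (fun h => hk (h ▸ hi)) (fun h => hl (h ▸ hi))
      (by rw [val_out hk, val_out hl])
  by_contra hcon
  push Not at hcon
  set r := val B e ν i x with hr
  have hr2 : r ^ 2 - 3 * r + 1 = 0 :=
    ((T.v_quad hΩ p hp hx h3 hi).resolve_left hcon.1).resolve_left hcon.2
  have hR : 3 ≤ (S.erase i).card := by have := Finset.card_erase_add_one hi; omega
  -- the other values are distinct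
  have hinj : Set.InjOn (fun q => val B e ν q x) (S.erase i : Finset (Fin n)) := by
    intro k hk l hl hkl
    by_contra hne
    rcases T.v_pair hΩ p hp hx h3 hi hne (Finset.ne_of_mem_erase hk) (Finset.ne_of_mem_erase hl)
      hkl with h | h
    exacts [hcon.1 h, hcon.2 h]
  have hnr : ∀ q ∈ S.erase i, val B e ν q x ≠ r := by
    intro q hq h
    obtain ⟨a, ha, b, hb, hab⟩ := Finset.one_lt_card.mp (show 1 < ((S.erase i).erase q).card by
      have := Finset.card_erase_add_one hq; omega)
    simp only [Finset.mem_erase] at ha hb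
    have q1 := T.v_pair hΩ p hp hx h3 ha.2.2 (Finset.ne_of_mem_erase hq).symm (Ne.symm ha.2.1)
      (Ne.symm ha.1) h.symm
    have q2 := T.v_pair hΩ p hp hx h3 hb.2.2 (Finset.ne_of_mem_erase hq).symm (Ne.symm hb.2.1)
      (Ne.symm hb.1) h.symm
    have hne : val B e ν a x ≠ val B e ν b x := fun he => hab (hinj
      (Finset.mem_erase.mpr ha.2) (Finset.mem_erase.mpr hb.2) he)
    by_cases h5 : S.card = 4
    · have hsum := X.sum_val hx.1
      have hqS := Finset.mem_of_mem_erase hq
      have hS4 : S = {i, q, a, b} := (Finset.eq_of_subset_of_card_le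
        (by simp [Finset.insert_subset_iff, hi, hqS, ha.2.2, hb.2.2])
        (by rw [h5, Finset.card_insert_of_notMem, Finset.card_insert_of_notMem,
              Finset.card_pair hab]
            · simp [Ne.symm ha.1, Ne.symm hb.1]
            · simp [(Finset.ne_of_mem_erase hq).symm, Ne.symm ha.2.1, Ne.symm hb.2.1])).symm
      rw [← hS, hS4, Finset.sum_insert (by simp [(Finset.ne_of_mem_erase hq).symm,
        Ne.symm ha.2.1, Ne.symm hb.2.1]), Finset.sum_insert (by simp [Ne.symm ha.1, Ne.symm hb.1]),
        Finset.sum_pair hab, ← hr, h] at hsum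
      rcases q1 with e1 | e1 <;> rcases q2 with e2 | e2
      · exact hne (e1.trans e2.symm)
      · rw [e1, e2] at hsum
        exact one_ne_zero (α := F) (by linear_combination -4 * hr2 + (2 * r - 5) * hsum)
      · rw [e1, e2] at hsum
        exact one_ne_zero (α := F) (by linear_combination -4 * hr2 + (2 * r - 5) * hsum)
      · exact hne (e1.trans e2.symm)
    obtain ⟨c, hc⟩ := Finset.card_pos.mp (show 0 < (((S.erase i).erase q).erase a |>.erase b).card by
      have h1 := Finset.card_erase_add_one hq
      have h2 := Finset.card_erase_add_one (Finset.mem_erase.mpr ⟨ha.1, Finset.mem_erase.mpr ha.2⟩)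
      have h6 : b ∈ ((S.erase i).erase q).erase a := by simp [hb, hab.symm]
      have h7 := Finset.card_erase_add_one h6
      have := Finset.card_erase_add_one hi
      omega)
    simp only [Finset.mem_erase] at hc
    have q3 := T.v_pair hΩ p hp hx h3 hc.2.2.2.2 (Finset.ne_of_mem_erase hq).symm
      (Ne.symm hc.2.2.2.1) (Ne.symm hc.2.2.1) h.symm
    have n1 : val B e ν c x ≠ val B e ν a x := fun he => hc.2.1 (hinj
      (Finset.mem_erase.mpr hc.2.2.2) (Finset.mem_erase.mpr ha.2) he)
    have n2 : val B e ν c x ≠ val B e ν b x := fun he => hc.1 (hinj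
      (Finset.mem_erase.mpr hc.2.2.2) (Finset.mem_erase.mpr hb.2) he)
    rcases q1 with e1 | e1 <;> rcases q2 with e2 | e2 <;> rcases q3 with e3 | e3 <;>
      simp_all
  have hmem : ∀ q ∈ S.erase i, val B e ν q x ∈ ({1, 2, 3 - r} : Finset F) := by
    intro q hq
    simp only [Finset.mem_insert, Finset.mem_singleton]
    rcases T.v_quad hΩ p hp hx h3 (Finset.mem_of_mem_erase hq) with h | h | h
    · exact Or.inl h
    · exact Or.inr (Or.inl h)
    · have h' : (val B e ν q x - r) * (val B e ν q x - (3 - r)) = 0 := by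
        linear_combination h - hr2
      exact Or.inr (Or.inr (sub_eq_zero.mp ((mul_eq_zero.mp h').resolve_left
        (sub_ne_zero.mpr (hnr q hq)))))
  have himg : (S.erase i).image (fun q => val B e ν q x) = {1, 2, 3 - r} :=
    Finset.eq_of_subset_of_card_le (fun v hv => by
      obtain ⟨q, hq, rfl⟩ := Finset.mem_image.mp hv
      exact hmem q hq) (Finset.card_le_three.trans (by rw [Finset.card_image_of_injOn hinj]; omega))
  have hsum := X.sum_val hx.1
  rw [← hS, ← Finset.add_sum_erase _ _ hi, ← hr,
    ← Finset.sum_image (f := fun v => v) hinj, himg] at hsum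
  have n12 : (1 : F) ≠ 2 := fun h => one_ne_zero (α := F) (by linear_combination -h)
  rw [Finset.sum_insert (by
      simp only [Finset.mem_insert, Finset.mem_singleton, not_or]
      exact ⟨n12, fun h => hcon.2 (by linear_combination h)⟩),
    Finset.sum_pair (fun h => hcon.1 (by linear_combination h))] at hsum
  exact X.two (by linear_combination hsum)

include hΩ hp in
/-- The class is standard. -/
theorem Ctx.exact_large {x : ι → F} (hx : Cls Q e ν H x) : Std B e ν x := by
  classical
  have X := T.frame
  have C := X.space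
  have hn := X.big
  have hle : (supp B e ν x).card ≤ n := (Finset.card_le_univ _).trans (Fintype.card_fin n).le
  have nd : ∀ {m : ℕ}, 0 < m → m < 11 → ¬ p ∣ m := fun hm hm' h => by
    have := Nat.le_of_dvd hm h; omega
  have h3' : (3 : F) ≠ 0 := num_ne p 3 (nd (by omega) (by omega))
  have hsum := X.sum_val hx.1
  set S := supp B e ν x with hS
  by_cases h2 : S.card = 2
  · exact Or.inr ⟨h2, fun i hi => T.two_std hΩ p hp hx h2 hi⟩
  by_cases h1 : S.card = 1
  · exact Or.inl h1
  exfalso
  have h3 : 3 ≤ S.card := by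
    by_contra h
    rw [Finset.card_eq_zero.mp (show S.card = 0 by omega), Finset.sum_empty] at hsum
    exact X.four hsum.symm
  have hv := fun i (hi : i ∈ S) => T.v12 hΩ p hp hx h3 hi
  set S2 := S.filter (fun q => val B e ν q x = 2) with hS2
  have hcount : ((S.card + S2.card : ℕ) : F) = ((4 : ℕ) : F) := by
    rw [Finset.card_filter, Finset.card_eq_sum_ones, ← Finset.sum_add_distrib, Nat.cast_sum,
      Nat.cast_ofNat, ← hsum]
    refine Finset.sum_congr rfl fun q hq => ?_
    rcases hv q hq with h | h <;> rw [h]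
    · rw [if_neg (fun e => one_ne_zero (α := F) (by linear_combination -e))]; simp
    · rw [if_pos rfl]; norm_num
  have hS2le : S2.card ≤ S.card := Finset.card_filter_le _ _
  have hnat : S.card + S2.card = 4 := by
    have h := (CharP.natCast_eq_natCast F p).mp hcount
    by_contra hne
    rcases Nat.lt_or_ge (S.card + S2.card) 4 with h' | h'
    · rw [Nat.ModEq, Nat.mod_eq_of_lt (by omega), Nat.mod_eq_of_lt (by omega)] at h
      exact hne h
    · have hd := (Nat.modEq_iff_dvd' h').mp h.symm
      have hlt : S.card + S2.card - 4 < p := by omega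
      have := Nat.eq_zero_of_dvd_of_lt hd hlt
      omega
  rcases (show S.card = 3 ∨ S.card = 4 by omega) with hc | hc
  · -- one `2` and two `1`
    obtain ⟨i, hi⟩ := Finset.card_pos.mp (show 0 < S2.card by omega)
    have hiS := (Finset.mem_filter.mp hi).1
    have hvi := (Finset.mem_filter.mp hi).2
    obtain ⟨j, l, hjl, hR⟩ := Finset.card_eq_two.mp (show (S.erase i).card = 2 by
      have := Finset.card_erase_add_one hiS; omega)
    have hjm : j ∈ S.erase i ∧ l ∈ S.erase i := by rw [hR]; simp
    simp only [Finset.mem_erase] at hjm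
    obtain ⟨⟨hji, hjS⟩, hli, hlS⟩ := hjm
    have hone : ∀ q ∈ S, q ≠ i → val B e ν q x = 1 := fun q hq hqi =>
      (hv q hq).resolve_right fun h2' => hqi (by
        have h1c : S2.card = 1 := by omega
        obtain ⟨a, ha⟩ := Finset.card_eq_one.mp h1c
        have m1 : q ∈ S2 := Finset.mem_filter.mpr ⟨hq, h2'⟩
        rw [ha, Finset.mem_singleton] at m1 hi
        rw [m1, hi])
    obtain ⟨m, o, hm, ho, hmo⟩ := exists_two_outside (S := S) (by omega)
    have ne : ∀ {s t : Fin n}, s ∈ S → t ∉ S → s ≠ t := fun hs ht h => ht (h ▸ hs)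
    obtain ⟨x', hx', hc'⟩ := T.swap hx (a := i) (b := m) (c := l) (d := o) (ne hiS hm) (ne hlS ho)
      hli.symm (ne hiS ho) (ne hlS hm).symm hmo
    have hB : ∑ r, co B e ν r x * co B e ν r x' = 1 / 4 := by
      rw [Finset.sum_eq_single j]
      · rw [hc', if_neg hji, if_neg (ne hjS hm), if_neg hjl, if_neg (ne hjS ho)]
        have := hone j hjS hji
        rw [val] at this
        have := X.four
        field_simp
        linear_combination ‹4 * co B e ν j x ^ 2 = 1›
      · intro r _ hrj
        by_cases hrS : r ∈ S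
        · by_cases hri : r = i
          · subst hri; rw [hc', if_pos rfl, not_mem_supp.mp hm, mul_zero]
          · have : r ∈ S.erase i := Finset.mem_erase.mpr ⟨hri, hrS⟩
            rw [hR, Finset.mem_insert, Finset.mem_singleton] at this
            obtain rfl := this.resolve_left hrj
            rw [hc', if_neg hri, if_neg (ne hrS hm), if_pos rfl, not_mem_supp.mp ho, mul_zero]
        · rw [not_mem_supp.mp hrS, zero_mul]
      · exact fun h => absurd (Finset.mem_univ j) h
    have hy := hx.refl T hx'
    have vz : ∀ r, val B e ν r ((rGL Q x).val *ᵥ x') =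
        4 * (co B e ν r x' - co B e ν r x / 2) ^ 2 := by
      intro r
      rw [val, rGL_act C (hx.1 ▸ X.nu), co_sub, co_smul, X.B_co, hB, hx.1]
      have := X.nu
      have := X.two
      have := X.four
      field_simp
      ring
    have hvi' := hvi
    rw [val] at hvi'
    have vi : val B e ν i ((rGL Q x).val *ᵥ x') = 1 / 2 := by
      rw [vz, hc', if_pos rfl, not_mem_supp.mp hm]
      have := X.two; have := X.four
      field_simp; linear_combination hvi'
    have vm : val B e ν m ((rGL Q x).val *ᵥ x') = 2 := by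
      rw [vz, hc', if_neg (ne hiS hm).symm, if_pos rfl, not_mem_supp.mp hm]
      linear_combination hvi'
    have h12 : (1 / 2 : F) ≠ 0 := div_ne_zero one_ne_zero X.two
    rcases T.g1 p hp hΩ hy (ne hiS hm) (by
        rw [vi, vm]; intro h
        have := X.two
        field_simp at h
        exact h3' (by linear_combination -h))
      (mem_supp.mp ((supp_val X.four).mpr (vi ▸ h12)))
      (mem_supp.mp ((supp_val X.four).mpr (vm ▸ X.two))) with h | h | h <;>
      rw [vi] at h <;> have := X.two <;> field_simp at h
    · exact one_ne_zero (α := F) (by linear_combination -h)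
    · exact h3' (by linear_combination -h)
    · exact one_ne_zero (α := F) (by linear_combination -h)
  · -- four `1`
    have hone : ∀ q ∈ S, val B e ν q x = 1 := fun q hq => (hv q hq).resolve_right fun h => by
      have : 0 < S2.card := Finset.card_pos.mpr ⟨q, Finset.mem_filter.mpr ⟨hq, h⟩⟩
      omega
    set A := S.filter (fun q => co B e ν q x = -(1 / 2)) with hA
    obtain ⟨z, hz, hzc⟩ := hx.flips T A
    have hzS : ∀ q ∈ S, co B e ν q z = 1 / 2 := by
      intro q hq
      rw [hzc]
      have h := hone q hq
      rw [val] at h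
      have := X.two
      split_ifs with hqA
      · rw [(Finset.mem_filter.mp hqA).2, neg_neg]
      · have h' : (co B e ν q x - 1 / 2) * (co B e ν q x + 1 / 2) = 0 := by
          have := X.four
          field_simp
          linear_combination h
        refine sub_eq_zero.mp ((mul_eq_zero.mp h').resolve_right fun h0 => hqA ?_)
        exact Finset.mem_filter.mpr ⟨hq, by linear_combination h0⟩
    have hzo : ∀ q, q ∉ S → co B e ν q z = 0 := fun q hq => by
      rw [hzc, not_mem_supp.mp hq]; simp
    obtain ⟨a, b, c, d, hab, hac, had, hbc, hbd, hcd, hS4⟩ := Finset.card_eq_four.mp hc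
    have hm : a ∈ S ∧ b ∈ S ∧ c ∈ S ∧ d ∈ S := by rw [hS4]; simp
    obtain ⟨o, ho⟩ := exists_outside (S := S) (by omega)
    have ne : ∀ {s : Fin n}, s ∈ S → s ≠ o := fun hs h => ho (h ▸ hs)
    obtain ⟨z', hz', hzc'⟩ := T.swap hz (a := a) (b := b) (c := d) (d := o) hab (ne hm.2.2.2) had
      (ne hm.1) hbd (ne hm.2.1)
    have hB : ∑ r, co B e ν r z * co B e ν r z' = 3 / 4 := by
      rw [← Finset.sum_subset (Finset.subset_univ S) fun r _ hr => by rw [hzo r hr, zero_mul], hS4,
        Finset.sum_insert (by simp [hab, hac, had]), Finset.sum_insert (by simp [hbc, hbd]),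
        Finset.sum_pair hcd]
      simp only [hzc', hzS a hm.1, hzS b hm.2.1, hzS c hm.2.2.1, hzS d hm.2.2.2, hzo o ho,
        if_true, if_neg hab.symm, if_neg hac.symm, if_neg hbc.symm, if_neg hcd, if_neg had.symm,
        if_neg hbd.symm, if_neg (ne hm.2.2.1)]
      have := X.two; have := X.four
      field_simp; ring
    have hy := hz.refl T hz'
    have vz : ∀ r, val B e ν r ((rGL Q z).val *ᵥ z') =
        4 * (co B e ν r z' - 3 * co B e ν r z / 2) ^ 2 := by
      intro r
      rw [val, rGL_act C (hz.1 ▸ X.nu), co_sub, co_smul, X.B_co, hB, hz.1]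
      have := X.nu
      have := X.two
      have := X.four
      field_simp
      ring
    have va : val B e ν a ((rGL Q z).val *ᵥ z') = 1 / 4 := by
      rw [vz, hzc', if_pos rfl, hzS b hm.2.1, hzS a hm.1]
      have := X.two; have := X.four
      field_simp; ring
    have vb : val B e ν b ((rGL Q z).val *ᵥ z') = 1 / 4 := by
      rw [vz, hzc', if_neg hab.symm, if_pos rfl, hzS a hm.1, hzS b hm.2.1]
      have := X.two; have := X.four
      field_simp; ring
    have h14 : (1 / 4 : F) ≠ 0 := div_ne_zero one_ne_zero X.four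
    rcases T.g1 p hp hΩ hy hab (by
        rw [va, vb]; intro h
        have := X.four
        field_simp at h
        exact mul_ne_zero X.two (num_ne (F := F) p 7 (nd (by omega) (by omega)))
          (by linear_combination -h))
      (mem_supp.mp ((supp_val X.four).mpr (va ▸ h14)))
      (mem_supp.mp ((supp_val X.four).mpr (vb ▸ h14))) with h | h | h <;>
      rw [va] at h <;> have := X.four <;> field_simp at h
    · exact h3' (by linear_combination -h)
    · exact num_ne (F := F) p 7 (nd (by omega) (by omega)) (by linear_combination -h)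
    · exact num_ne (F := F) p 5 (nd (by omega) (by omega)) (by linear_combination h)

end Ctx

end Cfsg.Lib.Linear.FrameSmall
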