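import Cfsg.Agent.Lib.Linear.FrameSmall.Cert

/-!
# The class in characteristic three, five and seven
-/

set_option autoImplicit false

namespace Cfsg.Lib.Linear.FrameSmall

open Module Cfsg.Lib.Linear.Orth
open scoped Matrix

/-- Steps for `p = 3`, `n = 5`. -/
def steps35 : List (List ℕ × List ℕ × List ℕ) :=
  []

/-- Steps for `p = 3`, `n = 6`. -/
def steps36 : List (List ℕ × List ℕ × List ℕ) :=
  []

/-- Steps for `p = 5`, `n = 5`. -/
def steps55 : List (List ℕ × List ℕ × List ℕ) :=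
  [([0, 2, 2, 2, 2], [2, 0, 2, 2, 2], [2, 2, 4, 4, 4]),
   ([0, 2, 2, 2, 2], [1, 1, 1, 2, 3], [1, 0, 0, 1, 2]),
   ([1, 1, 1, 2, 2], [1, 1, 2, 2, 4], [4, 4, 0, 3, 0]),
   ([0, 0, 1, 1, 2], [0, 2, 0, 1, 4], [0, 2, 2, 3, 3]),
   ([0, 0, 1, 1, 2], [1, 1, 0, 0, 2], [1, 1, 2, 2, 1])]

/-- Steps for `p = 5`, `n = 6`. -/
def steps56 : List (List ℕ × List ℕ × List ℕ) :=
  [([0, 0, 2, 2, 2, 2], [0, 2, 0, 2, 2, 2], [0, 2, 2, 4, 4, 4]),
   ([0, 0, 2, 2, 2, 2], [0, 1, 1, 1, 2, 3], [0, 1, 0, 0, 1, 2]),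
   ([0, 1, 1, 1, 2, 2], [0, 1, 1, 2, 2, 4], [0, 4, 4, 0, 3, 0]),
   ([1, 1, 1, 1, 1, 1], [1, 1, 1, 1, 1, 4], [3, 3, 3, 3, 3, 1]),
   ([1, 1, 1, 1, 1, 1], [1, 2, 2, 3, 3, 3], [3, 4, 4, 0, 0, 0]),
   ([1, 2, 2, 2, 2, 2], [1, 2, 2, 3, 3, 3], [2, 4, 4, 0, 0, 0]),
   ([0, 0, 0, 1, 1, 2], [0, 0, 2, 0, 1, 4], [0, 0, 2, 2, 3, 3]),
   ([0, 0, 0, 1, 1, 2], [0, 1, 1, 0, 0, 2], [0, 1, 1, 2, 2, 1]),
   ([0, 0, 0, 1, 1, 2], [1, 1, 1, 0, 2, 3], [1, 1, 1, 4, 1, 1]),
   ([0, 0, 0, 1, 1, 2], [2, 2, 2, 0, 0, 2], [2, 2, 2, 2, 2, 1])]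

/-- Steps for `p = 7`, `n = 5`. -/
def steps75 : List (List ℕ × List ℕ × List ℕ) :=
  [([0, 1, 1, 2, 3], [0, 1, 1, 3, 5], [0, 4, 4, 2, 0]),
   ([0, 3, 3, 3, 3], [3, 0, 3, 3, 3], [3, 6, 2, 2, 2]),
   ([1, 2, 2, 2, 3], [3, 0, 3, 3, 4], [5, 4, 0, 0, 3]),
   ([1, 1, 1, 1, 2], [1, 1, 5, 6, 6], [0, 0, 4, 5, 4]),
   ([1, 1, 3, 3, 3], [1, 3, 1, 4, 4], [2, 4, 4, 0, 0]),
   ([1, 2, 2, 2, 3], [1, 2, 2, 5, 4], [2, 4, 4, 0, 0]),
   ([0, 0, 2, 3, 3], [0, 2, 3, 0, 3], [0, 2, 6, 1, 4]),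
   ([0, 0, 2, 3, 3], [0, 3, 0, 2, 3], [0, 3, 3, 3, 4]),
   ([0, 0, 2, 3, 3], [1, 1, 0, 2, 4], [1, 1, 5, 6, 1]),
   ([0, 0, 2, 3, 3], [3, 3, 0, 0, 2], [3, 3, 4, 6, 1]),
   ([0, 0, 2, 3, 3], [2, 3, 0, 0, 3], [2, 3, 6, 2, 5])]

/-- Steps for `p = 7`, `n = 6`. -/
def steps76 : List (List ℕ × List ℕ × List ℕ) :=
  [([0, 0, 1, 1, 2, 3], [0, 0, 1, 1, 3, 5], [0, 0, 4, 4, 2, 0]),
   ([0, 0, 3, 3, 3, 3], [0, 3, 0, 3, 3, 3], [0, 3, 6, 2, 2, 2]),
   ([0, 1, 2, 2, 2, 3], [0, 3, 0, 3, 3, 4], [0, 5, 4, 0, 0, 3]),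
   ([0, 1, 1, 1, 1, 2], [0, 1, 1, 5, 6, 6], [0, 0, 0, 4, 5, 4]),
   ([0, 1, 1, 3, 3, 3], [0, 1, 3, 1, 4, 4], [0, 2, 4, 4, 0, 0]),
   ([0, 1, 2, 2, 2, 3], [0, 1, 2, 2, 5, 4], [0, 2, 4, 4, 0, 0]),
   ([1, 1, 1, 1, 3, 3], [1, 1, 4, 6, 3, 6], [0, 0, 3, 5, 0, 3]),
   ([1, 1, 1, 2, 2, 2], [1, 1, 6, 2, 5, 5], [0, 0, 5, 0, 3, 3]),
   ([1, 2, 2, 3, 3, 3], [1, 2, 2, 4, 4, 4], [2, 4, 4, 0, 0, 0]),
   ([2, 2, 2, 2, 2, 3], [2, 2, 2, 2, 4, 2], [1, 1, 1, 1, 3, 4]),
   ([2, 2, 2, 2, 2, 3], [1, 1, 1, 3, 4, 1], [0, 0, 0, 2, 3, 3]),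
   ([0, 0, 0, 2, 3, 3], [0, 0, 2, 3, 0, 3], [0, 0, 2, 6, 1, 4]),
   ([0, 0, 0, 2, 3, 3], [0, 0, 3, 0, 2, 3], [0, 0, 3, 3, 3, 4]),
   ([0, 0, 0, 2, 3, 3], [0, 1, 1, 0, 2, 4], [0, 1, 1, 5, 6, 1]),
   ([0, 0, 0, 2, 3, 3], [0, 3, 3, 0, 0, 2], [0, 3, 3, 4, 6, 1]),
   ([0, 0, 0, 2, 3, 3], [0, 2, 3, 0, 0, 3], [0, 2, 3, 6, 2, 5]),
   ([0, 0, 0, 2, 3, 3], [1, 1, 3, 0, 0, 2], [1, 1, 3, 4, 6, 1]),
   ([0, 0, 0, 2, 3, 3], [1, 1, 2, 0, 0, 3], [1, 1, 2, 6, 2, 5]),
   ([0, 0, 0, 2, 3, 3], [1, 2, 3, 0, 0, 1], [1, 2, 3, 2, 3, 4]),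
   ([0, 0, 0, 2, 3, 3], [2, 2, 2, 0, 1, 4], [2, 2, 2, 3, 2, 5])]

/-- The residues of a coordinate pattern which the class always contains. -/
def seeds (p n : ℕ) : List (List ℕ) :=
  if p = 7 then [key p n (res n [1]), key p n (res n [2, 2])] else [key p n (res n [1])]

/-- A key of the standard vectors. -/
def StdKey (p n : ℕ) (κ : List ℕ) : Prop :=
  κ.getD 0 0 + 1 = n ∨ (p = 7 ∧ κ.getD 0 0 + 2 = n ∧ κ.getD 4 0 = 2)

instance (p n : ℕ) (κ : List ℕ) : Decidable (StdKey p n κ) := by unfold StdKey; infer_instance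

/-- A key of a vector of norm one. -/
def NormKey (p : ℕ) (κ : List ℕ) : Prop :=
  (∑ r ∈ Finset.range p, r * κ.getD r 0) % p = 1 ∧
    ∀ r ∈ List.range p, κ.getD r 0 = 0 ∨ ∃ m ∈ List.range p, m ^ 2 % p = r

instance (p : ℕ) (κ : List ℕ) : Decidable (NormKey p κ) := by unfold NormKey; infer_instance

/-- The steps lead from every key to every other. -/
def Covers (p n : ℕ) (steps : List (List ℕ × List ℕ × List ℕ)) : Prop :=
  ∀ κ ∈ (comps p n).filter (fun κ => decide (NormKey p κ)), StdKey p n κ ∨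
    ∀ κ' ∈ (comps p n).filter (fun κ => decide (NormKey p κ)),
      κ' ∈ run p n (κ :: seeds p n) steps

instance (p n : ℕ) (steps : List (List ℕ × List ℕ × List ℕ)) : Decidable (Covers p n steps) := by
  unfold Covers; infer_instance

theorem covers35 : Covers 3 5 steps35 := by decide +kernel
theorem covers36 : Covers 3 6 steps36 := by decide +kernel
theorem covers55 : Covers 5 5 steps55 := by decide +kernel
theorem covers56 : Covers 5 6 steps56 := by decide +kernel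
theorem covers75 : Covers 7 5 steps75 := by decide +kernel
theorem covers76 : Covers 7 6 steps76 := by decide +kernel

theorem card_le_squares {F : Type*} [Field F] (p : ℕ) [Fact p.Prime] [CharP F p]
    (hpr : ∀ c : F, ∃ m : ℕ, c = (m : F)) (hp : p ≤ 7) {n : ℕ} (hn : 5 ≤ n) (f : Fin n → F) :
    ∃ k l, k ≠ l ∧ f k ^ 2 = f l ^ 2 := by
  classical
  choose m hm using fun i => hpr (f i)
  have hmod : ∀ i, f i ^ 2 = ((m i ^ 2 % p : ℕ) : F) := fun i => by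
    rw [← CharP.cast_eq_mod F p, Nat.cast_pow, ← hm]
  have hsq : ∀ i, m i ^ 2 % p ∈ (Finset.range p).image (fun r => r ^ 2 % p) := fun i =>
    Finset.mem_image.mpr ⟨m i % p, Finset.mem_range.mpr (Nat.mod_lt _ (Fact.out : p.Prime).pos),
      (Nat.pow_mod _ _ _).symm⟩
  have hc : ((Finset.range p).image (fun r => r ^ 2 % p)).card ≤ 4 := by
    interval_cases p <;> decide
  obtain ⟨k, -, l, -, hkl, he⟩ := Finset.exists_ne_map_eq_of_card_lt_of_maps_to
    (s := (Finset.univ : Finset (Fin n))) (by rw [Finset.card_univ, Fintype.card_fin]; omega)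
    (fun i _ => hsq i)
  exact ⟨k, l, hkl, by rw [hmod, hmod, he]⟩

variable {ι : Type} [Fintype ι] [DecidableEq ι] {F : Type*} [Field F]
  {Q : (ι → F) → F} {B : LinearMap.BilinForm F (ι → F)}
  {n : ℕ} {e : Fin n → (ι → F)} {ν : F} {H : Subgroup (GL ι F)}

section Ctx

variable [Finite F] (T : Ctx Q B e ν H) (hΩ : ¬ Cfsg.Geo.omegaGL Q ≤ H)
  (p : ℕ) [Fact p.Prime] [CharP F p] (hp : p ≤ 7)

include T hΩ hp

theorem Ctx.exact_of_covers {steps : List (List ℕ × List ℕ × List ℕ)} (hcov : Covers p n steps)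
    {x : ι → F} (hx : Cls Q e ν H x) : Std B e ν x := by
  classical
  have X := T.frame
  have hn := X.big
  have hp0 := (Fact.out : p.Prime).pos
  have hp2 : p ≠ 2 := fun h => X.two (by
    have := CharP.cast_eq_zero F p; rw [h] at this; exact_mod_cast this)
  have hpig := card_le_squares (F := F) p T.prime hp (n := n) (by omega)
  have resid : ∀ z, Q z = ν → ∃ k : Fin n → ℕ, (∀ i, co B e ν i z = (k i : F)) ∧
      key p n k ∈ (comps p n).filter (fun κ => decide (NormKey p κ)) := by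
    intro z hz
    choose k hk using fun i => T.prime (co B e ν i z)
    refine ⟨k, hk, List.mem_filter.mpr ⟨key_mem_comps hp0 k, decide_eq_true ⟨?_, fun r hr => ?_⟩⟩⟩
    · rw [key_weight hp0]
      have h1 : ((∑ i, k i ^ 2 : ℕ) : F) = ((1 : ℕ) : F) := by
        push_cast
        rw [← X.sum_sq hz]
        exact Finset.sum_congr rfl fun i _ => by rw [hk]
      have := (CharP.natCast_eq_natCast F p).mp h1
      rwa [Nat.ModEq, Nat.one_mod_eq_one.mpr (Fact.out : p.Prime).one_lt.ne'] at this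
    · by_cases h0 : (key p n k).getD r 0 = 0
      · exact Or.inl h0
      · rw [key_get k (List.mem_range.mp hr)] at h0
        obtain ⟨i, hi⟩ := Finset.card_pos.mp (Nat.pos_of_ne_zero h0)
        exact Or.inr ⟨k i % p, List.mem_range.mpr (Nat.mod_lt _ hp0), by
          rw [← Nat.pow_mod]; exact (Finset.mem_filter.mp hi).2⟩
  obtain ⟨k, hk, hκ⟩ := resid x hx.1
  rcases hcov _ hκ with hstd | hall
  · -- a standard key
    have hsupp : (supp B e ν x).card + (key p n k).getD 0 0 = n := by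
      rw [key_get k hp0, supp]
      have hiff : ∀ i, k i ^ 2 % p = 0 ↔ ¬ co B e ν i x ≠ 0 := fun i => by
        rw [not_ne_iff, hk, ← Nat.dvd_iff_mod_eq_zero, ← CharP.cast_eq_zero_iff F p, Nat.cast_pow]
        exact pow_eq_zero_iff two_ne_zero
      simp only [hiff]
      rw [Finset.card_filter_add_card_filter_not, Finset.card_univ, Fintype.card_fin]
    rcases hstd with h | ⟨rfl, h0, h4⟩
    · exact Or.inl (by omega)
    · refine Or.inr ⟨by omega, fun i hi => ?_⟩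
      rw [key_get k (by norm_num)] at h4
      have hsub : (Finset.univ.filter fun i => k i ^ 2 % 7 = 4) ⊆ supp B e ν x := fun j hj => by
        rw [mem_supp, hk]
        intro h
        have := (Finset.mem_filter.mp hj).2
        rw [Nat.pow_mod, Nat.dvd_iff_mod_eq_zero.mp ((CharP.cast_eq_zero_iff F 7 _).mp h)] at this
        simp at this
      have heq := Finset.eq_of_subset_of_card_le hsub (by omega)
      rw [← heq] at hi
      have h' := congrArg (fun m : ℕ => (m : F)) (Finset.mem_filter.mp hi).2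
      simp only [← CharP.cast_eq_mod F 7] at h'
      push_cast at h'
      rw [val, hk, h']
      have h7 : (7 : F) = 0 := by exact_mod_cast CharP.cast_eq_zero F 7
      linear_combination 2 * h7
  · exfalso
    have hseed : ∀ κ ∈ key p n k :: seeds p n, Good Q B e ν H p κ := by
      intro κ hκ
      have cv : ∀ {z}, Cls Q e ν H z → ∀ l : Fin n → ℕ, (∀ i, co B e ν i z = (l i : F)) →
          Good Q B e ν H p (key p n l) := fun hz l hl => Good.of_cv T p hpig ⟨_, hz, hl⟩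
      have one : Good Q B e ν H p (key p n (res n [1])) :=
        cv (T.cls_e ⟨0, by omega⟩) _ fun i => by
          rw [X.co_e]
          obtain ⟨i, hi⟩ := i
          rcases i with _ | i <;> simp [res, Fin.ext_iff]
      rcases List.mem_cons.mp hκ with rfl | hκ
      · exact cv hx k hk
      rw [seeds] at hκ
      split_ifs at hκ with h7
      · subst h7
        rcases List.mem_cons.mp hκ with rfl | hκ
        · exact one
        obtain rfl := List.mem_singleton.mp hκ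
        have h7 : (7 : F) = 0 := by exact_mod_cast CharP.cast_eq_zero F 7
        let a : Fin n := ⟨0, by omega⟩
        let b : Fin n := ⟨1, by omega⟩
        have hab : a ≠ b := by simp [a, b]
        have hs : Short e (e a + (1 : F) • e b) := Or.inr ⟨a, b, hab, 1, one_pow 2, rfl⟩
        have hQ : Q ((2 : F) • (e a + (1 : F) • e b)) = ν := by
          rw [X.space.smul, X.Q_root hab 1 (one_pow 2)]
          linear_combination ν * h7
        refine cv (T.cls_std hQ (Std.of_short X hs hQ)) _ fun i => ?_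
        rw [co_smul, co_add, co_smul, X.co_e, X.co_e]
        obtain ⟨i, hi⟩ := i
        rcases i with _ | _ | i <;> simp [res, a, b, Fin.ext_iff]
      · exact List.mem_singleton.mp hκ ▸ one
    refine hΩ (T.omega_of_all fun z hz => ?_)
    obtain ⟨l, hl, hlκ⟩ := resid z hz
    obtain ⟨y, hy, hyc⟩ := run_good T p hpig steps _ hseed _ (hall _ hlκ) l rfl
    rwa [X.ext fun i => (hl i).trans (hyc i).symm]

/-- The class is standard. -/
theorem Ctx.exact_small {x : ι → F} (hx : Cls Q e ν H x) : Std B e ν x := by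
  have X := T.frame
  have hp2 : p ≠ 2 := fun h => X.two (by
    have := CharP.cast_eq_zero F p; rw [h] at this; exact_mod_cast this)
  obtain rfl | rfl | rfl : p = 3 ∨ p = 5 ∨ p = 7 := by
    have h := (Fact.out : p.Prime)
    have := h.two_le
    interval_cases p <;> first | omega | (exfalso; revert h; decide)
  all_goals rcases X.big with rfl | rfl
  exacts [T.exact_of_covers hΩ 3 hp covers35 hx, T.exact_of_covers hΩ 3 hp covers36 hx,
    T.exact_of_covers hΩ 5 hp covers55 hx, T.exact_of_covers hΩ 5 hp covers56 hx,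
    T.exact_of_covers hΩ 7 hp covers75 hx, T.exact_of_covers hΩ 7 hp covers76 hx]

end Ctx

end Cfsg.Lib.Linear.FrameSmall
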