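import Cfsg.Agent.Lib.Linear.FrameSmall.Large
import Cfsg.Agent.Lib.Linear.FrameSmall.Small

/-!
# The class is standard; elements preserving the class; dimension five
-/

set_option autoImplicit false

namespace Cfsg.Lib.Linear.FrameSmall

open Module Cfsg.Lib.Linear.Orth
open scoped Matrix

variable {ι : Type} [Fintype ι] [DecidableEq ι] {F : Type*} [Field F]
  {Q : (ι → F) → F} {B : LinearMap.BilinForm F (ι → F)}
  {n : ℕ} {e : Fin n → (ι → F)} {ν : F} {H : Subgroup (GL ι F)}

section Ctx

variable [Finite F] (T : Ctx Q B e ν H)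

include T

variable (hΩ : ¬ Cfsg.Geo.omegaGL Q ≤ H) (p : ℕ) [Fact p.Prime] [CharP F p]

include hΩ p

/-- The class is standard. -/
theorem Ctx.exact {x : ι → F} (hx : Cls Q e ν H x) : Std B e ν x := by
  by_cases hp : p ≤ 7
  · exact T.exact_small hΩ p hp hx
  · refine T.exact_large hΩ p ?_ hx
    have h := (Fact.out : p.Prime)
    by_contra hc
    interval_cases p <;> first | omega | (revert h; decide)

/-- An element mapping a vector of the class into the class stabilises the frame. -/
theorem Ctx.maps {g : GL ι F} (hg : g ∈ H) {d : ι → F} (hd : Cls Q e ν H d)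
    (hgd : Cls Q e ν H (g.val *ᵥ d)) :
    g ∈ Cfsg.Geo.decompositionStabilizer (fun i => Submodule.span F {e i}) := by
  classical
  have X := T.frame
  have C := X.space
  have hI := T.le_iso hg
  have hpres : ∀ x, Cls Q e ν H x → Cls Q e ν H (g.val *ᵥ x) := fun x hx => by
    refine ⟨by rw [mem_iso.mp hI, hx.1], fun j => ?_⟩
    have h := mul_mem (mul_mem hg (hx.pair T hd)) (inv_mem hg)
    rw [show g * (rGL Q x * rGL Q d) * g⁻¹ = g * rGL Q x * g⁻¹ * (g * rGL Q d * g⁻¹) by group,
      rGL_conj C (hx.1 ▸ X.nu) hI, rGL_conj C (hd.1 ▸ X.nu) hI] at h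
    have h' := mul_mem h (hgd.2 j)
    rwa [← mul_assoc, mul_assoc (rGL Q _), rGL_sq C (hgd.1 ▸ X.nu), mul_one] at h'
  let f : {x // Cls Q e ν H x} → {x // Cls Q e ν H x} := fun x => ⟨_, hpres x.1 x.2⟩
  have hf : Function.Surjective f := Finite.injective_iff_surjective.mp fun a b h =>
    Subtype.ext (act_injective g (congrArg Subtype.val h))
  have key : ∀ l, ∃ a, g.val *ᵥ e l = e a ∨ g.val *ᵥ e l = -e a := by
    intro l
    have hy := hpres _ (T.cls_e l)
    rcases T.exact hΩ p hy with h1 | ⟨h2, hv⟩
    · obtain ⟨a, ha⟩ := Finset.card_eq_one.mp h1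
      exact ⟨a, X.std_one hy.1 ha⟩
    exfalso
    obtain ⟨a, b, hab, hS⟩ := Finset.card_eq_two.mp h2
    set y := g.val *ᵥ e l with hyl
    have hn := X.big
    obtain ⟨c, hc⟩ := exists_outside (S := ({a, b} : Finset (Fin n))) (by
      have := Finset.card_le_two (a := a) (b := b); omega)
    obtain ⟨m, hm⟩ := exists_outside (S := ({a, b, c} : Finset (Fin n))) (by
      have := Finset.card_le_three (a := a) (b := b) (c := c); omega)
    obtain ⟨o, ho⟩ := exists_outside (S := ({a, b, c, m} : Finset (Fin n))) (by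
      have := Finset.card_le_four (a := a) (b := b) (c := c) (d := m); omega)
    simp only [Finset.mem_insert, Finset.mem_singleton, not_or] at hc hm ho
    obtain ⟨y', hy', hyc⟩ := T.swap hy (a := b) (b := c) (c := m) (d := o) (Ne.symm hc.2)
      (Ne.symm ho.2.2.2) (Ne.symm hm.2.1) (Ne.symm ho.2.1) (Ne.symm hm.2.2) (Ne.symm ho.2.2.1)
    have z : ∀ q, q ≠ a → q ≠ b → co B e ν q y = 0 := fun q h1 h3 =>
      not_mem_supp.mp (by rw [hS]; simp [h1, h3])
    have hsum : ∑ q, co B e ν q y * co B e ν q y' = co B e ν a y ^ 2 := by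
      rw [Finset.sum_eq_single a]
      · rw [hyc, if_neg hab, if_neg (Ne.symm hc.1), if_neg (Ne.symm hm.1), if_neg (Ne.symm ho.1)]
        ring
      · intro q _ hq
        by_cases hqb : q = b
        · subst hqb; rw [hyc, if_pos rfl, z c hc.1 hc.2, mul_zero]
        · rw [z q hq hqb, zero_mul]
      · exact fun h => absurd (Finset.mem_univ a) h
    obtain ⟨⟨w, hw⟩, hwe⟩ := hf ⟨y', hy'⟩
    have hwe' : g.val *ᵥ w = y' := congrArg Subtype.val hwe
    have hcol : co B e ν l w = co B e ν a y ^ 2 := by
      have h := C.B_act hI (e l) w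
      rw [hwe', ← hyl, X.B_co, hsum, X.B_e] at h
      exact (mul_left_cancel₀ X.two_nu h).symm
    have hva := hv a (by rw [hS]; simp)
    rw [val] at hva
    have h1l : val B e ν l w = 1 := by
      rw [val, hcol]
      have h4 : co B e ν a y ^ 2 = 2 / 4 := by
        rw [eq_div_iff X.four]; linear_combination hva
      rw [h4]
      have := X.four
      field_simp
      norm_num
    have hlw : l ∈ supp B e ν w := (supp_val X.four).mpr (h1l ▸ one_ne_zero)
    rcases T.exact hΩ p hw with h1 | ⟨-, hv'⟩
    · obtain ⟨q, hq⟩ := Finset.card_eq_one.mp h1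
      have hs := X.sum_val hw.1
      rw [hq] at hlw hs
      rw [Finset.mem_singleton] at hlw
      subst hlw
      rw [Finset.sum_singleton, h1l] at hs
      have h3 : (3 : F) = 0 := by linear_combination -hs
      have hp3 : p = 3 := (Nat.prime_dvd_prime_iff_eq (Fact.out : p.Prime) Nat.prime_three).mp
        ((CharP.cast_eq_zero_iff F p 3).mp (by exact_mod_cast h3))
      obtain ⟨k, hk⟩ := T.prime (co B e ν a y)
      subst hp3
      rw [hk, CharP.cast_eq_mod F 3 k] at hva
      have : k % 3 < 3 := Nat.mod_lt _ (by norm_num)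
      interval_cases hk3 : k % 3
      · norm_num at hva
        exact X.two hva.symm
      · norm_num at hva
        exact X.two (by linear_combination hva)
      · norm_num at hva
        exact X.two (by linear_combination hva - 4 * h3)
    · have := hv' l hlw
      rw [h1l] at this
      exact one_ne_zero (α := F) (by linear_combination -this)
  choose π hπ using key
  have hinj : Function.Injective π := fun a b hab => by
    by_contra hne
    have h := C.B_act hI (e a) (e b)
    rw [X.orth a b hne] at h
    rcases hπ a with ha | ha <;> rcases hπ b with hb | hb <;> rw [ha, hb, hab] at h <;>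
      simp [X.self, X.two, X.nu] at h
  refine X.mem_stab (Equiv.ofBijective π (Finite.injective_iff_bijective.mp hinj)) fun l => ?_
  rcases hπ l with h | h
  · exact ⟨1, one_ne_zero, by rw [h, one_smul]; rfl⟩
  · exact ⟨-1, neg_ne_zero.mpr one_ne_zero, by rw [h, neg_one_smul]; rfl⟩

/-- An element fixing a frame vector stabilises the frame. -/
theorem Ctx.fix_stab {g : GL ι F} (hg : g ∈ H) {c : Fin n} (hc : g.val *ᵥ e c = e c) :
    g ∈ Cfsg.Geo.decompositionStabilizer (fun i => Submodule.span F {e i}) :=
  T.maps hΩ p hg (T.cls_e c) (by rw [hc]; exact T.cls_e c)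


/-- The class is the orbit of a frame vector: an overgroup not containing `Ω` stabilises the
frame. -/
theorem Ctx.le_stab_five (h5 : n = 5) :
    H ≤ Cfsg.Geo.decompositionStabilizer (fun i => Submodule.span F {e i}) := by
  classical
  intro g hg
  have X := T.frame
  have C := X.space
  have hn := X.big
  have hI := T.le_iso hg
  let c : Fin n := ⟨0, by omega⟩
  refine T.maps hΩ p hg (T.cls_e c) (T.cls_of_one (i := c) (by rw [mem_iso.mp hI, X.norm]) ?_)
  obtain ⟨m, hm, hmc⟩ := T.even_flip 2 (Finset.univ.erase c) (by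
    rw [Finset.card_erase_of_mem (Finset.mem_univ c), Finset.card_univ, Fintype.card_fin]; omega)
  have hmz : ∀ z, m.val *ᵥ z = -((rGL Q (e c)).val *ᵥ z) := fun z => X.ext fun l => by
    rw [hmc, co_neg, X.co_refl]
    by_cases h : l = c
    · subst h; simp
    · simp [h]
  rw [show rGL Q (g.val *ᵥ e c) * rGL Q (e c) = g * m * g⁻¹ * m from gl_ext fun z => by
    rw [← rGL_conj C (X.Qne c) hI]
    simp only [mul_act, hmz, Matrix.mulVec_neg, neg_neg]]
  exact mul_mem (mul_mem (mul_mem hg hm) (inv_mem hg)) hm

end Ctx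

end Cfsg.Lib.Linear.FrameSmall
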