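import Cfsg.Agent.Lib.Linear.FrameSmall.Five
import Cfsg.Agent.Lib.Linear.FrameSmall.Six.Main

/-!
# The stabiliser of a frame in dimension five or six is maximal in `Ω` over a field of odd prime
order
-/

set_option autoImplicit false

namespace Cfsg.Lib.Linear.FrameSmall

open Module Cfsg.Lib.Linear.Orth
open scoped Matrix

variable {ι : Type} [Fintype ι] [DecidableEq ι] {F : Type*} [Field F]
  {Q : (ι → F) → F} {B : LinearMap.BilinForm F (ι → F)}

/-- The stabiliser of a decomposition into lines is maximal over a field of odd prime order. -/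
theorem lines_maximal [Fintype F] (C : Space Q B) (hodd : Odd (Fintype.card F))
    (hprime : (Fintype.card F).Prime) (h2 : (2 : F) ≠ 0)
    (hd : Fintype.card ι = 5 ∨ Fintype.card ι = 6) {t : ℕ}
    {D : Fin t → Submodule F (ι → F)} (hD : Cfsg.Geo.IsOrthogonalMDecomposition Q 1 D) :
    Cfsg.Geo.IsMaximalIn (Cfsg.Geo.omegaGL Q)
      (Cfsg.Geo.decompositionStabilizer D ⊓ Cfsg.Geo.omegaGL Q) := by
  rcases hd with h | h
  · exact lines_maximal_five C hodd hprime h2 h hD
  haveI := Fact.mk hprime
  haveI : CharP F (Fintype.card F) := by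
    obtain ⟨p, hp⟩ := CharP.exists F
    haveI := hp
    obtain ⟨k, hpp, hk⟩ := FiniteField.card F p
    rw [hk] at hprime
    have hk1 : (k : ℕ) = 1 := (Nat.Prime.pow_eq_iff hprime).mp rfl |>.2
    rwa [hk, hk1, pow_one]
  have hpr : ∀ c : F, ∃ m : ℕ, c = (m : F) := fun c => by
    obtain ⟨z, rfl⟩ := ((Fintype.bijective_iff_injective_and_card _).mpr
      ⟨(ZMod.castHom (dvd_refl (Fintype.card F)) F).injective, ZMod.card _⟩).2 c
    exact ⟨z.val, by rw [map_natCast (ZMod.castHom (dvd_refl (Fintype.card F)) F) z.val |>.symm,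
      ZMod.natCast_zmod_val]⟩
  obtain ⟨e, ν, X, rfl⟩ := exists_frame C h2 (Or.inr h) hD
  obtain rfl : t = 6 := X.card.symm.trans h
  exact X.maximal hpr fun H T hno => T.le_stab_six hno (Fintype.card F)

end Cfsg.Lib.Linear.FrameSmall
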