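import Cfsg.Agent.Lib.Linear.FrameSmall.Plane

/-!
# A full plane gives `Ω`, for characteristic at least eleven
-/

set_option autoImplicit false

namespace Cfsg.Lib.Linear.FrameSmall

open Module Cfsg.Lib.Linear.Orth
open Cfsg.Lib.Linear.FrameSeven (Tri tspan IsRot exists_conic)
open scoped Matrix

variable {ι : Type} [Fintype ι] [DecidableEq ι] {F : Type*} [Field F]
  {Q : (ι → F) → F} {B : LinearMap.BilinForm F (ι → F)}
  {n : ℕ} {e : Fin n → (ι → F)} {ν : F} {H : Subgroup (GL ι F)}

/-- A class vector with coordinates `a`, `b` at `i`, `j` only. -/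
def PairVec (Q : (ι → F) → F) (B : LinearMap.BilinForm F (ι → F)) (e : Fin n → (ι → F)) (ν : F)
    (H : Subgroup (GL ι F)) (a b : F) (i j : Fin n) : Prop :=
  i ≠ j ∧ ∃ y, Cls Q e ν H y ∧ ∀ l, co B e ν l y = if l = i then a else if l = j then b else 0

theorem exists_two_outside {S : Finset (Fin n)} (h : S.card + 2 ≤ n) :
    ∃ o m, o ∉ S ∧ m ∉ S ∧ o ≠ m := by
  obtain ⟨o, ho⟩ := exists_outside (S := S) (by omega)
  obtain ⟨m, hm⟩ := exists_outside (S := insert o S) (by
    have := Finset.card_insert_le o S; omega)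
  simp only [Finset.mem_insert, not_or] at hm
  exact ⟨o, m, ho, hm.2, Ne.symm hm.1⟩

section Ctx

variable [Finite F] (T : Ctx Q B e ν H)

include T

theorem PairVec.symm {a b : F} {i j : Fin n} (h : PairVec Q B e ν H a b i j) :
    PairVec Q B e ν H a b j i := by
  obtain ⟨hij, y, hy, hyc⟩ := h
  obtain ⟨o, m, ho, hm, hom⟩ := exists_two_outside (S := {i, j}) (by
    have := T.frame.big; rw [Finset.card_pair hij]; omega)
  simp only [Finset.mem_insert, Finset.mem_singleton, not_or] at ho hm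
  obtain ⟨z, hz, hzc⟩ := T.swap hy (a := i) (b := j) (c := o) (d := m) hij hom (Ne.symm ho.1)
    (Ne.symm hm.1) (Ne.symm ho.2) (Ne.symm hm.2)
  refine ⟨hij.symm, z, hz, fun l => ?_⟩
  rw [hzc, hyc i, hyc j, hyc o, hyc m, hyc l]
  split_ifs <;> simp_all

theorem PairVec.move {a b : F} {i j k : Fin n} (h : PairVec Q B e ν H a b i j) (hkj : k ≠ j) :
    PairVec Q B e ν H a b k j := by
  obtain ⟨hij, y, hy, hyc⟩ := h
  by_cases hki : k = i
  · exact hki ▸ ⟨hij, y, hy, hyc⟩
  obtain ⟨o, m, ho, hm, hom⟩ := exists_two_outside (S := {i, j, k}) (by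
    have := T.frame.big
    have := Finset.card_le_three (a := i) (b := j) (c := k)
    omega)
  simp only [Finset.mem_insert, Finset.mem_singleton, not_or] at ho hm
  obtain ⟨z, hz, hzc⟩ := T.swap hy (a := i) (b := k) (c := o) (d := m) (Ne.symm hki) hom
    (Ne.symm ho.1) (Ne.symm hm.1) (Ne.symm ho.2.2) (Ne.symm hm.2.2)
  refine ⟨hkj, z, hz, fun l => ?_⟩
  rw [hzc, hyc i, hyc k, hyc o, hyc m, hyc l]
  split_ifs <;> simp_all

theorem PairVec.all {a b : F} {i j : Fin n} (h : PairVec Q B e ν H a b i j) {i' j' : Fin n}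
    (hne : i' ≠ j') : PairVec Q B e ν H a b i' j' := by
  by_cases hji : j = i'
  · exact (h.move T (k := j') (hji ▸ Ne.symm hne)).symm T |> fun h' => hji ▸ h'
  · exact (((h.move T (k := i') (Ne.symm hji)).symm T).move T (k := j') (Ne.symm hne)).symm T

end Ctx


section Prime

variable [Finite F] (T : Ctx Q B e ν H) (p : ℕ) [Fact p.Prime] [CharP F p] (hp : 11 ≤ p)

include T hp

/-- A pair vector with suitable coordinates makes every coordinate triple full. -/
theorem Ctx.triple_of_pair {a b : F} {i j : Fin n} (hP : PairVec Q B e ν H a b i j)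
    (ha : a ≠ 0) (hb : b ≠ 0) (hb2 : 1 - 2 * b ^ 2 ≠ 0) (h1 : 4 * a ^ 2 ≠ 1) (h2 : 4 * a ^ 2 ≠ 2)
    (h3 : (4 * a ^ 2) ^ 2 - 3 * (4 * a ^ 2) + 1 ≠ 0) {u v w : Fin n} (huv : u ≠ v) (huw : u ≠ w)
    (hvw : v ≠ w) :
    Root Q B (tspan ![e u, e v, e w]) ≤ H ∧
      ∀ y ∈ tspan ![e u, e v, e w], Q y = ν → Cls Q e ν H y := by
  have X := T.frame
  have C := X.space
  obtain ⟨-, x, hx, hxc⟩ := hP.all T huv
  obtain ⟨-, x', hx', hxc'⟩ := hP.all T (Ne.symm hvw)
  have hy := hx.refl T hx'
  set y := (rGL Q x).val *ᵥ x' with hydef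
  have hsum : ∑ l, co B e ν l x * co B e ν l x' = b * b := by
    rw [Finset.sum_eq_single v]
    · simp [hxc, hxc', huv.symm, hvw]
    · intro l _ hl
      rw [hxc, hxc', if_neg hl]
      split_ifs <;> simp_all
    · exact fun h => absurd (Finset.mem_univ v) h
  have hyc : ∀ l, co B e ν l y = co B e ν l x' - 2 * (b * b) * co B e ν l x := by
    intro l
    rw [hydef, rGL_act C (hx.1 ▸ X.nu), co_sub, co_smul, X.B_co, hsum, hx.1]
    have := X.nu
    field_simp
  have yu : co B e ν u y = -(2 * (b * b) * a) := by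
    rw [hyc, hxc, hxc', if_neg huw, if_neg huv, if_pos rfl]; ring
  have yv : co B e ν v y = b * (1 - 2 * b ^ 2) := by
    simp [hyc, hxc, hxc', hvw, huv.symm]; ring
  have yw : co B e ν w y = a := by
    rw [hyc, hxc, hxc', if_pos rfl, if_neg huw.symm, if_neg hvw.symm]; ring
  have yo : ∀ l, l ≠ u → l ≠ v → l ≠ w → co B e ν l y = 0 := fun l q1 q2 q3 => by
    simp [hyc, hxc, hxc', q1, q2, q3]
  have hyu : co B e ν u y ≠ 0 := by
    rw [yu, neg_ne_zero]; exact mul_ne_zero (mul_ne_zero X.two (mul_ne_zero hb hb)) ha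
  have hyv : co B e ν v y ≠ 0 := yv ▸ mul_ne_zero hb hb2
  have hrest : rest B e ν w u y = co B e ν v y • e v := by
    refine X.ext fun l => ?_
    rw [X.co_rest huw.symm, co_smul, X.co_e]
    by_cases q1 : l = v
    · subst q1; simp [hvw, huv.symm]
    · by_cases q2 : l = w ∨ l = u
      · rw [if_pos q2, if_neg q1, mul_zero]
      · rw [if_neg q2, if_neg q1, mul_zero]
        push Not at q2
        exact yo l q2.2 q1 q2.1
  have hD : val B e ν w y + val B e ν u y ≠ 4 := by
    intro hD
    have h := X.Q_rest huw.symm (x := y) hy.1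
    rw [hD, sub_self, mul_zero, hrest, C.smul, X.norm] at h
    exact mul_ne_zero X.four (mul_ne_zero (pow_ne_zero 2 hyv) X.nu) h
  rcases T.gamma_one p hp hy huw.symm hD (yw ▸ ha) hyu with hF | h | h | h
  · have hle : tspan ![e u, e v, e w] ≤ tspan (tvec B e ν w u y) := by
      obtain ⟨g0, g1, g2, -⟩ := tvec_mem (B := B) (e := e) (ν := ν) w u y
      refine Submodule.span_le.mpr ?_
      rintro _ ⟨q, rfl⟩
      fin_cases q
      · exact g1
      · have := Submodule.smul_mem _ (co B e ν v y)⁻¹ g2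
        rw [hrest, smul_smul, inv_mul_cancel₀ hyv, one_smul] at this
        exact this
      · exact g0
    exact ⟨(root_mono hle).trans hF.1, fun z hz hQz => hF.2 z (hle hz) hQz⟩
  · rw [val, yw] at h; exact absurd h h1
  · rw [val, yw] at h; exact absurd h h2
  · rw [val, yw] at h; exact absurd h h3

theorem Ctx.all_of_triples (hR : ∀ u v w : Fin n, u ≠ v → u ≠ w → v ≠ w →
    Root Q B (tspan ![e u, e v, e w]) ≤ H ∧
      ∀ y ∈ tspan ![e u, e v, e w], Q y = ν → Cls Q e ν H y) :
    ∀ k, ∀ z, (supp B e ν z).card ≤ k → Q z = ν → Cls Q e ν H z := by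
  classical
  have X := T.frame
  have C := X.space
  have hn := X.big
  have h3 : (3 : F) ≠ 0 := num_ne p 3 (fun h => by have := Nat.le_of_dvd (by omega) h; omega)
  intro k
  induction k with
  | zero =>
    intro z hz hQz
    have := X.sum_val hQz
    rw [Finset.card_eq_zero.mp (Nat.le_zero.mp hz), Finset.sum_empty] at this
    exact absurd this.symm X.four
  | succ k ih =>
    intro z hz hQz
    set S := supp B e ν z with hS
    by_cases hS3 : S.card ≤ 3
    · obtain ⟨A, hA, hAc⟩ := Finset.exists_superset_card_eq (s := S) (n := 3) hS3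
        (by rw [Fintype.card_fin]; omega)
      obtain ⟨u, v, w, huv, huw, hvw, rfl⟩ := Finset.card_eq_three.mp hAc
      refine (hR u v w huv huw hvw).2 z ?_ hQz
      rw [← X.expand z]
      refine Submodule.sum_mem _ fun l _ => ?_
      by_cases hl : l ∈ S
      · have := hA hl
        simp only [Finset.mem_insert, Finset.mem_singleton] at this
        refine Submodule.smul_mem _ _ (Submodule.subset_span ?_)
        rcases this with rfl | rfl | rfl
        exacts [⟨0, rfl⟩, ⟨1, rfl⟩, ⟨2, rfl⟩]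
      · rw [not_mem_supp.mp hl, zero_smul]; exact Submodule.zero_mem _
    obtain ⟨u, hu, v, hv, w, hw, huv, huw, hvw, hs⟩ : ∃ u ∈ S, ∃ v ∈ S, ∃ w ∈ S, u ≠ v ∧ u ≠ w ∧
        v ≠ w ∧ co B e ν u z ^ 2 + co B e ν v z ^ 2 + co B e ν w z ^ 2 ≠ 0 := by
      by_contra hc
      push Not at hc
      obtain ⟨a, ha, b, hb, c, hcS, d, hd, hab, hac, had, hbc, hbd, hcd⟩ :
          ∃ a ∈ S, ∃ b ∈ S, ∃ c ∈ S, ∃ d ∈ S,
            a ≠ b ∧ a ≠ c ∧ a ≠ d ∧ b ≠ c ∧ b ≠ d ∧ c ≠ d := by
        obtain ⟨A, hA, hAc⟩ := Finset.exists_subset_card_eq (show 4 ≤ S.card by omega)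
        obtain ⟨a, b, c, d, h⟩ := Finset.card_eq_four.mp hAc
        obtain ⟨q1, q2, q3, q4, q5, q6, rfl⟩ := h
        exact ⟨a, hA (by simp), b, hA (by simp), c, hA (by simp), d, hA (by simp),
          q1, q2, q3, q4, q5, q6⟩
      have e1 := hc a ha b hb c hcS hab hac hbc
      have e2 := hc a ha b hb d hd hab had hbd
      have e3 := hc a ha c hcS d hd hac had hcd
      have e4 := hc b hb c hcS d hd hbc hbd hcd
      have : 3 * co B e ν a z ^ 2 = 0 := by linear_combination e1 + e2 + e3 - 2 * e4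
      exact mul_ne_zero h3 (pow_ne_zero 2 (mem_supp.mp ha)) this
    have D : Tri Q B ![e u, e v, e w] := ⟨C, X.two, fun q => by fin_cases q <;> exact X.Qne _,
      fun q r h => by
        fin_cases q <;> fin_cases r
        exacts [absurd rfl h, X.orth _ _ huv, X.orth _ _ huw, X.orth _ _ huv.symm, absurd rfl h,
          X.orth _ _ hvw, X.orth _ _ huw.symm, X.orth _ _ hvw.symm, absurd rfl h]⟩
    obtain ⟨α, β, hαβ⟩ := exists_conic X.two (one_ne_zero) (one_ne_zero)
      (co B e ν u z ^ 2 + co B e ν v z ^ 2 + co B e ν w z ^ 2)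
    set U := tspan ![e u, e v, e w]
    have mU : e u ∈ U ∧ e v ∈ U ∧ e w ∈ U :=
      ⟨Submodule.subset_span ⟨0, rfl⟩, Submodule.subset_span ⟨1, rfl⟩,
        Submodule.subset_span ⟨2, rfl⟩⟩
    set t := co B e ν u z • e u + co B e ν v z • e v + co B e ν w z • e w with ht
    set t' := α • e u + β • e v with ht'
    have htU : t ∈ U := U.add_mem (U.add_mem (U.smul_mem _ mU.1) (U.smul_mem _ mU.2.1))
      (U.smul_mem _ mU.2.2)
    have htU' : t' ∈ U := U.add_mem (U.smul_mem _ mU.1) (U.smul_mem _ mU.2.1)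
    have hQt : Q t = ν * (co B e ν u z ^ 2 + co B e ν v z ^ 2 + co B e ν w z ^ 2) := by
      rw [ht]
      simp [C.add, C.smul, X.norm, X.orth _ _ huv, X.orth _ _ huw, X.orth _ _ hvw]
      ring
    have hQt' : Q t' = Q t := by
      rw [hQt, ht']
      simp [C.add, C.smul, X.norm, X.orth _ _ huv]
      linear_combination ν * hαβ
    obtain ⟨g, hg, hgt⟩ := D.trans (by have := card_ge_char (F := F) p; omega) h3 htU htU'
      (hQt ▸ mul_ne_zero X.nu hs) hQt'
    have hgH := (hR u v w huv huw hvw).1 hg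
    have hgI := root_le_iso C _ hg
    have hsupp : supp B e ν (g.val *ᵥ z) ⊆ S.erase w := by
      have hz' : g.val *ᵥ z = z - t + t' := by
        conv_lhs => rw [← sub_add_cancel z t]
        rw [Matrix.mulVec_add, hgt, (root_act C hg (z - t)).2 fun y hy => ?_]
        obtain ⟨c, rfl⟩ := (Submodule.mem_span_range_iff_exists_fun F).mp hy
        simp [Fin.sum_univ_three, X.B_e, ht, co_sub, co_add, co_smul, X.co_e, huv, huw, hvw,
          huv.symm, huw.symm, hvw.symm]
      intro l hl
      rw [mem_supp, hz', ht, ht', co_add, co_sub, co_add, co_add, co_add, co_smul, co_smul, co_smul,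
        co_smul, co_smul, X.co_e, X.co_e, X.co_e] at hl
      rw [Finset.mem_erase, hS, mem_supp]
      by_cases q3 : l = w
      · subst q3
        simp [huw.symm, hvw.symm] at hl
      refine ⟨q3, ?_⟩
      by_cases q1 : l = u
      · subst q1; exact mem_supp.mp hu
      by_cases q2 : l = v
      · subst q2; exact mem_supp.mp hv
      simpa [q1, q2, q3] using hl
    have hcls := ih (g.val *ᵥ z) (by
      have := Finset.card_le_card hsupp
      have := Finset.card_erase_add_one hw
      omega) (by rw [mem_iso.mp hgI, hQz])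
    have hback := hcls.act T (inv_mem hgH) (i := u) ((hR u v w huv huw hvw).2 _
      (root_mem_U C (inv_mem hg) mU.1)
      (by rw [mem_iso.mp (inv_mem hgI), X.norm]))
    rwa [inv_act] at hback

variable (hΩ : ¬ Cfsg.Geo.omegaGL Q ≤ H)

include hΩ

theorem Ctx.no_full {x : ι → F} {i j : Fin n} (hij : i ≠ j) (hF : Full Q B e ν H i j x) :
    False := by
  classical
  have X := T.frame
  have nd : ∀ {m : ℕ}, 0 < m → m < 11 → ¬ p ∣ m := fun hm hm' h => by
    have := Nat.le_of_dvd hm h; omega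
  have h3 : (3 : F) ≠ 0 := num_ne p 3 (nd (by omega) (by omega))
  have h5 : (5 : F) ≠ 0 := num_ne p 5 (nd (by omega) (by omega))
  have h7 : (7 : F) ≠ 0 := num_ne p 7 (nd (by omega) (by omega))
  set y := (3 / 5 : F) • e i + (4 / 5 : F) • e j + (0 : F) • rest B e ν i j x with hy
  have hyc : ∀ l, co B e ν l y = if l = i then (3 / 5 : F) else if l = j then 4 / 5 else 0 := by
    intro l
    rw [hy, X.co_comb hij]
    simp
  have hQy : Q y = ν := by
    rw [X.Q_co, Finset.sum_eq_add i j hij (fun l _ hl => by rw [hyc, if_neg hl.1, if_neg hl.2]; ring)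
      (fun h => absurd (Finset.mem_univ i) h) (fun h => absurd (Finset.mem_univ j) h),
      hyc, hyc, if_pos rfl, if_neg hij.symm, if_pos rfl]
    field_simp
    ring
  have hP : PairVec Q B e ν H (3 / 5) (4 / 5) i j := ⟨hij, y, hF.2 y (tspan_mem _ _ _) hQy, hyc⟩
  have hP' : PairVec Q B e ν H (4 / 5) (3 / 5) i j := by
    obtain ⟨-, z, hz, hzc⟩ := hP.all T hij.symm
    refine ⟨hij, z, hz, fun l => ?_⟩
    rw [hzc]
    split_ifs <;> simp_all
  refine hΩ (T.omega_of_all fun z hz => T.all_of_triples p hp ?_ _ z le_rfl hz)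
  intro u v w huv huw hvw
  by_cases hgood : (4 * (3 / 5 : F) ^ 2) ≠ 1 ∧
      (4 * (3 / 5 : F) ^ 2) ^ 2 - 3 * (4 * (3 / 5 : F) ^ 2) + 1 ≠ 0
  · refine T.triple_of_pair p hp hP (div_ne_zero h3 h5) (div_ne_zero X.four h5) ?_ hgood.1 ?_
      hgood.2 huv huw hvw <;> intro h <;> field_simp at h
    · exact h7 (by linear_combination -h)
    · exact mul_ne_zero X.two h7 (by linear_combination -h)
  · refine T.triple_of_pair p hp hP' (div_ne_zero X.four h5) (div_ne_zero h3 h5) ?_ ?_ ?_ ?_
      huv huw hvw <;> intro h <;> field_simp at h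
    · exact h7 (by linear_combination h)
    · exact num_ne (F := F) p 3 (nd (by omega) (by omega)) (by
        have h13 : (13 : F) = 0 := mul_left_cancel₀ h3 (by linear_combination h)
        push Not at hgood
        by_cases hg : 4 * (3 / 5 : F) ^ 2 = 1
        · field_simp at hg
          exact absurd (show (1 : F) = 0 by linear_combination 6 * hg - 5 * h13) one_ne_zero
        · have := hgood hg
          field_simp at this
          exact absurd (show (1 : F) = 0 by linear_combination this + 60 * h13) one_ne_zero)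
    · exact mul_ne_zero X.two h7 (by linear_combination h)
    · have h79 : (79 : F) = 0 := by linear_combination -h
      push Not at hgood
      by_cases hg : 4 * (3 / 5 : F) ^ 2 = 1
      · field_simp at hg
        exact one_ne_zero (α := F) (by linear_combination 36 * hg - 5 * h79)
      · have := hgood hg
        field_simp at this
        exact one_ne_zero (α := F) (by linear_combination 36 * this + 355 * h79)

theorem Ctx.g1 {x : ι → F} (hx : Cls Q e ν H x) {i j : Fin n} (hij : i ≠ j)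
    (hD : val B e ν i x + val B e ν j x ≠ 4) (ha : co B e ν i x ≠ 0) (hb : co B e ν j x ≠ 0) :
    val B e ν i x = 1 ∨ val B e ν i x = 2 ∨ val B e ν i x ^ 2 - 3 * val B e ν i x + 1 = 0 :=
  (T.gamma_one p hp hx hij hD ha hb).resolve_left (T.no_full p hp hΩ hij)

theorem Ctx.g4 {x : ι → F} (hx : Cls Q e ν H x) {i j k l : Fin n} (hij : i ≠ j)
    (hkl : k ≠ l) (hik : i ≠ k) (hil : i ≠ l) (hjk : j ≠ k) (hjl : j ≠ l)
    (heq : val B e ν k x = val B e ν l x)
    (hD : val B e ν i x + val B e ν j x ≠ 4) (ha : co B e ν i x ≠ 0) :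
    val B e ν i x = 1 ∨ val B e ν i x = 2 :=
  (T.gamma_four p hp hx hij hkl hik hil hjk hjl heq hD ha).resolve_left (T.no_full p hp hΩ hij)

end Prime

end Cfsg.Lib.Linear.FrameSmall
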