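import Cfsg.Agent.Lib.Linear.FrameSmall.Basic

/-!
# Short vectors, monomial elements, changes of frame, and the criterion for containing `Ω`
-/

set_option autoImplicit false

namespace Cfsg.Lib.Linear.FrameSmall

open Module Cfsg.Lib.Linear.Orth
open scoped Matrix

variable {ι : Type} [Fintype ι] [DecidableEq ι] {F : Type*} [Field F]
  {Q : (ι → F) → F} {B : LinearMap.BilinForm F (ι → F)}
  {n : ℕ} {e : Fin n → (ι → F)} {ν : F} {H : Subgroup (GL ι F)}

theorem supp_val {x : ι → F} {l : Fin n} (h4 : (4 : F) ≠ 0) :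
    l ∈ supp B e ν x ↔ val B e ν l x ≠ 0 := by
  rw [mem_supp, val]
  simp [h4]

theorem exists_outside {S : Finset (Fin n)} (h : S.card < n) : ∃ j, j ∉ S := by
  by_contra hc
  push Not at hc
  have := Finset.card_le_card (fun a (_ : a ∈ (Finset.univ : Finset (Fin n))) => hc a)
  rw [Finset.card_univ, Fintype.card_fin] at this
  omega

theorem cast_ne (p : ℕ) [CharP F p] {m : ℕ} (h : ¬ p ∣ m) : (m : F) ≠ 0 := fun h0 =>
  h ((CharP.cast_eq_zero_iff F p m).mp h0)

theorem num_ne (p : ℕ) [CharP F p] (m : ℕ) [m.AtLeastTwo] (h : ¬ p ∣ m) :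
    (OfNat.ofNat m : F) ≠ 0 := by
  rw [← Nat.cast_ofNat]
  exact cast_ne p h

/-- A monomial element: the permutation and the signs. -/
structure Mono (Q : (ι → F) → F) (e : Fin n → (ι → F)) (g : GL ι F) (π : Equiv.Perm (Fin n))
    (s : Fin n → F) : Prop where
  iso : g ∈ isometryGroup F Q
  eq : ∀ c, g.val *ᵥ e c = s c • e (π c)

section Frame

variable (X : Frame Q B e ν) {g : GL ι F} {π : Equiv.Perm (Fin n)} {s : Fin n → F}

include X

theorem Frame.exists_mono (hI : g ∈ isometryGroup F Q)
    (hg : g ∈ Cfsg.Geo.decompositionStabilizer (fun i => Submodule.span F {e i})) :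
    ∃ π s, Mono Q e g π s := by
  obtain ⟨π, hπ⟩ := Frame.of_stab (e := e) hg
  choose s hs using hπ
  exact ⟨π, s, hI, hs⟩

theorem Mono.sq (m : Mono Q e g π s) (c : Fin n) : s c ^ 2 = 1 := by
  have h := mem_iso.mp m.iso (e c)
  rw [m.eq, X.space.smul, X.norm, X.norm] at h
  exact mul_right_cancel₀ X.nu (h.trans (one_mul ν).symm)

theorem Mono.ne (m : Mono Q e g π s) (c : Fin n) : s c ≠ 0 := fun h => by
  have := m.sq X c
  rw [h] at this
  simp at this

theorem Mono.co_act (m : Mono Q e g π s) (c : Fin n) (y : ι → F) :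
    co B e ν (π c) (g.val *ᵥ y) = s c * co B e ν c y := by
  classical
  conv_lhs => rw [← X.expand y]
  rw [Matrix.mulVec_sum, co_sum, Finset.sum_eq_single c]
  · rw [Matrix.mulVec_smul, m.eq, co_smul, co_smul, X.co_e, if_pos rfl]; ring
  · intro d _ hd
    rw [Matrix.mulVec_smul, m.eq, co_smul, co_smul, X.co_e,
      if_neg (fun h => hd (π.injective h).symm)]
    ring
  · exact fun h => absurd (Finset.mem_univ c) h

theorem Mono.invol (m : Mono Q e g π s) (h2 : g * g = 1) (c : Fin n) : π (π c) = c := by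
  have h := congrArg (fun τ : GL ι F => co B e ν c (τ.val *ᵥ e c)) h2
  simp only [mul_act, m.eq, Matrix.mulVec_smul, co_smul, Units.val_one, Matrix.one_mulVec,
    X.co_e, if_true] at h
  by_contra hne
  rw [if_neg (Ne.symm hne), mul_zero, mul_zero] at h
  exact zero_ne_one h

theorem Mono.neg_moved (m : Mono Q e g π s) {y : ι → F} (hy : g.val *ᵥ y = -y) {c : Fin n}
    (hc : c ∈ supp B e ν y) : π c ∈ supp B e ν y ∧ g.val *ᵥ e c ≠ e c ∧ (π c = c → s c = -1) := by
  have h := m.co_act X c y
  rw [hy, co_neg] at h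
  have hne := mem_supp.mp hc
  have h1 : π c = c → s c = -1 := fun hp => by
    rw [hp] at h
    exact mul_right_cancel₀ hne (by linear_combination -h)
  refine ⟨mem_supp.mpr fun h0 => ?_, fun hf => ?_, h1⟩
  · rw [h0, neg_zero] at h
    exact mul_ne_zero (m.ne X c) hne h.symm
  · rw [m.eq] at hf
    have hcc := congrArg (co B e ν c) hf
    rw [co_smul, X.co_e, X.co_e, if_pos rfl] at hcc
    by_cases hp : π c = c
    · rw [hp, if_pos rfl, mul_one, h1 hp] at hcc
      exact X.two (by linear_combination -hcc)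
    · rw [if_neg (Ne.symm hp), mul_zero] at hcc
      exact zero_ne_one hcc

theorem Frame.std_one {x : ι → F} (hx : Q x = ν) {a : Fin n} (h : supp B e ν x = {a}) :
    x = e a ∨ x = -e a := by
  have hs := X.sum_sq hx
  rw [← X.sum_supp, h, Finset.sum_singleton] at hs
  rcases sq_eq_one_iff.mp hs with hc | hc
  · refine Or.inl (X.ext fun l => ?_)
    rw [X.co_e]
    split_ifs with hl
    · rw [hl, hc]
    · exact not_mem_supp.mp (by rw [h]; simpa using hl)
  · refine Or.inr (X.ext fun l => ?_)
    rw [co_neg, X.co_e]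
    split_ifs with hl
    · rw [hl, hc]
    · rw [neg_zero]
      exact not_mem_supp.mp (by rw [h]; simpa using hl)

theorem rGL_smul' {v : ι → F} (hv : Q v ≠ 0) {c : F} (hc : c ≠ 0) :
    rGL Q (c • v) = rGL Q v := by
  have h : Q (c • v) ≠ 0 := by rw [X.space.smul]; exact mul_ne_zero (pow_ne_zero 2 hc) hv
  refine gl_ext fun z => ?_
  rw [rGL_act X.space h, rGL_act X.space hv, X.space.smul, map_smul, LinearMap.smul_apply,
    smul_eq_mul]
  match_scalars
  · ring
  · field_simp

end Frame

/-- A frame vector, or a sum or difference of two of them. -/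
def Short (e : Fin n → (ι → F)) (x : ι → F) : Prop :=
  (∃ i, x = e i) ∨ ∃ i j, i ≠ j ∧ ∃ σ : F, σ ^ 2 = 1 ∧ x = e i + σ • e j

section Short

variable (X : Frame Q B e ν)

include X

theorem Short.Qne {x : ι → F} (hx : Short e x) : Q x ≠ 0 := by
  rcases hx with ⟨i, rfl⟩ | ⟨i, j, hij, σ, hσ, rfl⟩
  exacts [X.Qne i, X.root_ne hij σ hσ]

theorem Short.stab {x : ι → F} (hx : Short e x) :
    rGL Q x ∈ Cfsg.Geo.decompositionStabilizer (fun i => Submodule.span F {e i}) := by
  classical
  rcases hx with ⟨i, rfl⟩ | ⟨i, j, hij, σ, hσ, rfl⟩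
  · refine X.mem_stab 1 fun m => ⟨if m = i then -1 else 1, by split_ifs <;> norm_num,
      X.ext fun q => ?_⟩
    rw [X.co_refl, co_smul, Equiv.Perm.one_apply, X.co_e]
    split_ifs <;> simp_all
  · refine X.mem_stab (Equiv.swap i j) fun m =>
      ⟨if m = i ∨ m = j then -σ else 1, ?_, X.ext fun q => ?_⟩
    · split_ifs
      · exact neg_ne_zero.mpr fun h => by rw [h] at hσ; simp at hσ
      · exact one_ne_zero
    · rw [X.co_root hij σ hσ, co_smul, X.co_e, X.co_e, X.co_e, X.co_e]
      by_cases h1 : m = i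
      · subst h1; rw [Equiv.swap_apply_left]; split_ifs <;> simp_all
      by_cases h3 : m = j
      · subst h3; rw [Equiv.swap_apply_right]; split_ifs <;> simp_all
      rw [Equiv.swap_apply_of_ne_of_ne h1 h3]
      split_ifs <;> simp_all

theorem Std.short {x : ι → F} (hx : Q x = ν) (hs : Std B e ν x) :
    ∃ u, Short e u ∧ ∃ c : F, c ≠ 0 ∧ x = c • u := by
  classical
  rcases hs with h1 | ⟨h2, hv⟩
  · obtain ⟨a, ha⟩ := Finset.card_eq_one.mp h1
    rcases X.std_one hx ha with rfl | rfl
    · exact ⟨_, Or.inl ⟨a, rfl⟩, 1, one_ne_zero, (one_smul F _).symm⟩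
    · exact ⟨_, Or.inl ⟨a, rfl⟩, -1, neg_ne_zero.mpr one_ne_zero, (neg_one_smul F _).symm⟩
  obtain ⟨a, b, hab, hS⟩ := Finset.card_eq_two.mp h2
  have hca : co B e ν a x ≠ 0 := mem_supp.mp (by rw [hS]; simp)
  set σ := co B e ν b x / co B e ν a x with hσ'
  have hσ : σ ^ 2 = 1 := by
    have h := hv a (by rw [hS]; simp)
    have h' := hv b (by rw [hS]; simp)
    rw [val] at h h'
    rw [hσ', div_pow, div_eq_one_iff_eq (pow_ne_zero 2 hca)]
    exact mul_left_cancel₀ X.four (h'.trans h.symm)
  refine ⟨_, Or.inr ⟨a, b, hab, σ, hσ, rfl⟩, co B e ν a x, hca, X.ext fun l => ?_⟩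
  rw [co_smul, co_add, co_smul, X.co_e, X.co_e]
  by_cases h1 : l = a
  · subst h1; rw [if_pos rfl, if_neg hab]; ring
  by_cases h3 : l = b
  · subst h3; rw [if_neg h1, if_pos rfl, hσ']; field_simp; ring
  rw [if_neg h1, if_neg h3,
    not_mem_supp.mp (show l ∉ supp B e ν x by rw [hS]; simp [h1, h3])]
  ring

theorem Std.of_short {u : ι → F} (hu : Short e u) {c : F} (hx : Q (c • u) = ν) :
    Std B e ν (c • u) := by
  classical
  have hc : c ≠ 0 := fun h => X.nu (by rw [← hx, h, zero_smul, X.space.zero])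
  rcases hu with ⟨i, rfl⟩ | ⟨i, j, hij, σ, hσ, rfl⟩
  · refine Or.inl (Finset.card_eq_one.mpr ⟨i, Finset.ext fun l => ?_⟩)
    rw [mem_supp, co_smul, X.co_e, Finset.mem_singleton]
    split_ifs with h <;> simp [h, hc]
  · have hσ0 : σ ≠ 0 := fun h => by rw [h] at hσ; simp at hσ
    have hS : supp B e ν (c • (e i + σ • e j)) = {i, j} := Finset.ext fun l => by
      rw [mem_supp, co_smul, co_add, co_smul, X.co_e, X.co_e, Finset.mem_insert,
        Finset.mem_singleton]
      by_cases h1 : l = i
      · subst h1; simp [hij, hc]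
      by_cases h2 : l = j
      · subst h2; simp [h1, hc, hσ0]
      simp [h1, h2]
    have h2c : 2 * c ^ 2 = 1 := by
      rw [X.space.smul, X.Q_root hij σ hσ] at hx
      exact mul_right_cancel₀ X.nu (by linear_combination hx)
    refine Or.inr ⟨by rw [hS, Finset.card_pair hij], fun l hl => ?_⟩
    rw [hS, Finset.mem_insert, Finset.mem_singleton] at hl
    rw [val, co_smul, co_add, co_smul, X.co_e, X.co_e]
    rcases hl with rfl | rfl
    · rw [if_pos rfl, if_neg hij]; linear_combination 2 * h2c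
    · rw [if_neg hij.symm, if_pos rfl]
      linear_combination (4 * c ^ 2) * hσ + 2 * h2c

/-- The frame with permuted and signed vectors. -/
theorem Frame.perm (π : Equiv.Perm (Fin n)) {ε : Fin n → F} (hε : ∀ i, ε i ^ 2 = 1) :
    Frame Q B (fun i => ε i • e (π i)) ν where
  space := X.space
  two := X.two
  norm i := by rw [X.space.smul, X.norm, hε, one_mul]
  nu := X.nu
  orth i j h := by
    rw [map_smul, map_smul, LinearMap.smul_apply, X.orth _ _ fun h' => h (π.injective h')]
    simp
  big := X.big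
  card := X.card

theorem Frame.perm_stab (π : Equiv.Perm (Fin n)) {ε : Fin n → F} (hε : ∀ i, ε i ^ 2 = 1) :
    Cfsg.Geo.decompositionStabilizer (fun i => Submodule.span F {ε i • e (π i)}) =
      Cfsg.Geo.decompositionStabilizer (fun i => Submodule.span F {e i}) := by
  have hsp : ∀ i, Submodule.span F {ε i • e (π i)} = Submodule.span F {e (π i)} := fun i =>
    Submodule.span_singleton_smul_eq (Ne.isUnit fun h => by
      have := hε i; rw [h] at this; simp at this) _
  ext g
  constructor
  · rintro ⟨σ, hσ⟩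
    refine ⟨π.symm.trans (σ.trans π), fun i => ?_⟩
    have h := hσ (π.symm i)
    simp only at h
    rw [hsp, hsp, Equiv.apply_symm_apply] at h
    exact h
  · rintro ⟨σ, hσ⟩
    refine ⟨π.trans (σ.trans π.symm), fun i => ?_⟩
    simp only
    rw [hsp, hsp]
    simpa only [Equiv.trans_apply, Equiv.apply_symm_apply] using hσ (π i)

end Short

section Ctx

variable [Finite F] (T : Ctx Q B e ν H)

include T

/-- The product of two short reflections of one square class. -/
theorem Ctx.rr_short {u v : ι → F} (hu : Short e u) (hv : Short e v) {c : F}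
    (hc : c ^ 2 * Q u = Q v) : rGL Q u * rGL Q v ∈ H := by
  have X := T.frame
  have hc0 : c ≠ 0 := fun h => hv.Qne X (by rw [← hc, h]; ring)
  refine T.le ⟨mul_mem (hu.stab X) (hv.stab X), ?_⟩
  rw [omegaGL_eq X.space X.five, ← comm_eq_root X.space X.five,
    ← rGL_smul' X (hu.Qne X) hc0]
  exact rGL_mul_rGL_mem X.space X.five
    (by rw [X.space.smul]; exact mul_ne_zero (pow_ne_zero 2 hc0) (hu.Qne X))
    (by rw [X.space.smul, hc])

/-- The allowed vectors of norm `ν` are in the class. -/
theorem Ctx.cls_std {x : ι → F} (hx : Q x = ν) (hs : Std B e ν x) : Cls Q e ν H x := by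
  have X := T.frame
  obtain ⟨u, hu, c, hc, rfl⟩ := Std.short X hx hs
  refine ⟨hx, fun i => ?_⟩
  rw [rGL_smul' X (hu.Qne X) hc]
  exact T.rr_short hu (Or.inl ⟨i, rfl⟩) (c := c) (by rw [← X.space.smul, hx, X.norm])

/-- The same subgroup, for a permuted and signed frame. -/
theorem Ctx.perm (π : Equiv.Perm (Fin n)) {ε : Fin n → F} (hε : ∀ i, ε i ^ 2 = 1) :
    Ctx Q B (fun i => ε i • e (π i)) ν H :=
  ⟨T.frame.perm π hε, T.le_iso, (T.frame.perm_stab π hε).symm ▸ T.le, T.prime⟩

theorem Ctx.swap {x : ι → F} (hx : Cls Q e ν H x) {a b c d : Fin n} (hab : a ≠ b) (hcd : c ≠ d)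
    (hac : a ≠ c) (had : a ≠ d) (hbc : b ≠ c) (hbd : b ≠ d) :
    ∃ y, Cls Q e ν H y ∧ ∀ l, co B e ν l y =
      if l = a then co B e ν b x else if l = b then co B e ν a x
      else if l = c then co B e ν d x else if l = d then co B e ν c x else co B e ν l x := by
  classical
  have X := T.frame
  have h1 : ((-1 : F)) ^ 2 = 1 := by norm_num
  obtain ⟨o, ho⟩ := exists_outside (S := {a, b, c, d}) (by
    have := Finset.card_le_four (a := a) (b := b) (c := c) (d := d)
    have := X.big
    omega)
  simp only [Finset.mem_insert, Finset.mem_singleton, not_or] at ho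
  obtain ⟨o1, o2, o3, o4⟩ := ho
  have hco : ∀ z l, co B e ν l ((rGL Q (e a + (-1 : F) • e b) *
      rGL Q (e c + (-1 : F) • e d)).val *ᵥ z) = if l = a then co B e ν b z
        else if l = b then co B e ν a z else if l = c then co B e ν d z
        else if l = d then co B e ν c z else co B e ν l z := by
    intro z l
    rw [mul_act, X.co_root hab _ h1, X.co_root hcd _ h1, X.co_root hcd _ h1, X.co_root hcd _ h1,
      neg_neg, one_mul, one_mul, one_mul, one_mul, if_neg hbc, if_neg hbd, if_neg hac, if_neg had]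
  refine ⟨_, hx.act T (T.rr_root hab hcd h1 h1) (i := o) ?_, hco x⟩
  have : (rGL Q (e a + (-1 : F) • e b) * rGL Q (e c + (-1 : F) • e d)).val *ᵥ e o = e o := by
    refine X.ext fun l => ?_
    rw [hco]
    simp only [X.co_e]
    split_ifs <;> simp_all
  rw [this]
  exact T.cls_e o

open Classical in
theorem Ctx.refl_flip {x : ι → F} (hx : Cls Q e ν H x) (A : Finset (Fin n)) :
    ∃ z, Cls Q e ν H z ∧ ∀ l, val B e ν l z =
      if l ∈ A then ((∑ i ∈ A, val B e ν i x) - 3) ^ 2 * val B e ν l x
      else ((∑ i ∈ A, val B e ν i x) - 1) ^ 2 * val B e ν l x := by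
  have X := T.frame
  obtain ⟨y, hy, hyc⟩ := hx.flips T A
  set W := ∑ i ∈ A, val B e ν i x with hW
  have hs : ∑ i, co B e ν i x * co B e ν i y = 1 - W / 2 := by
    have h1 : ∀ i, co B e ν i x * co B e ν i y
        = co B e ν i x ^ 2 - (if i ∈ A then val B e ν i x / 2 else 0) := by
      intro i
      rw [hyc i]
      have := X.two
      split_ifs
      · rw [val]; field_simp; ring
      · ring
    rw [Finset.sum_congr rfl fun i _ => h1 i, Finset.sum_sub_distrib, X.sum_sq hx.1,
      Finset.sum_ite_mem, Finset.univ_inter, ← Finset.sum_div]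
  refine ⟨_, hx.refl T hy, fun l => ?_⟩
  have hc : co B e ν l ((rGL Q x).val *ᵥ y) = co B e ν l y - (2 - W) * co B e ν l x := by
    rw [rGL_act X.space (hx.1 ▸ X.nu), co_sub, co_smul, X.B_co, hs, hx.1]
    have := X.nu
    have := X.two
    field_simp
  simp only [val, hc, hyc l]
  split_ifs <;> ring

open Classical in
/-- Sign changes on evenly many frame vectors. -/
theorem Ctx.even_flip (k : ℕ)
    (A : Finset (Fin n)) (hA : A.card = 2 * k) : ∃ m ∈ H, ∀ (x : ι → F) (l : Fin n),
      co B e ν l (m.val *ᵥ x) = if l ∈ A then -co B e ν l x else co B e ν l x := by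
  induction k generalizing A with
  | zero =>
    refine ⟨1, one_mem H, fun x l => ?_⟩
    rw [Finset.card_eq_zero.mp (by omega : A.card = 0)]
    simp
  | succ k ih =>
    obtain ⟨a, ha, b, hb, hab⟩ := Finset.one_lt_card.mp (show 1 < A.card by omega)
    obtain ⟨m, hm, hmc⟩ := ih ((A.erase a).erase b) (by
      rw [Finset.card_erase_of_mem (Finset.mem_erase.mpr ⟨hab.symm, hb⟩),
        Finset.card_erase_of_mem ha]
      omega)
    refine ⟨_, mul_mem (T.rr_frame a b) hm, fun x l => ?_⟩
    rw [mul_act, mul_act, T.frame.co_refl, T.frame.co_refl, hmc]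
    by_cases h1 : l = a
    · subst h1; simp [ha, hab]
    by_cases h2 : l = b
    · subst h2; simp [hb, h1]
    simp [h1, h2]

/-- If every vector of norm `ν` is in the class then `H` contains `Ω`. -/
theorem Ctx.omega_of_all (h : ∀ x, Q x = ν → Cls Q e ν H x) : Cfsg.Geo.omegaGL Q ≤ H := by
  have X := T.frame
  have C := X.space
  rw [omegaGL_eq C X.five]
  refine (Subgroup.closure_le _).mpr ?_
  rintro _ ⟨u, a, -, -, hu, hua, rfl⟩
  have hone : sGL Q B u (0 : ι → F) = 1 := gl_ext fun x => by
    rw [sGL_act C hu (map_zero _), C.zero]; simp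
  by_cases hu0 : u = 0
  · have h1 : sGL Q B u a = 1 := gl_ext fun x => by
      rw [sGL_act C hu hua, hu0]
      simp
    rw [h1]
    exact one_mem H
  let A : Submodule F (ι → F) :=
    { carrier := {b | B u b = 0 ∧ ∀ c : F, sGL Q B u (c • b) ∈ H}
      add_mem' := fun {a b} ha hb => ⟨by rw [map_add, ha.1, hb.1, add_zero], fun c => by
        rw [smul_add, ← sGL_mul C hu (by rw [map_smul, ha.1, smul_zero])
          (by rw [map_smul, hb.1, smul_zero])]
        exact mul_mem (ha.2 c) (hb.2 c)⟩
      zero_mem' := ⟨map_zero _, fun c => by rw [smul_zero, hone]; exact one_mem H⟩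
      smul_mem' := fun c a ha => ⟨by rw [map_smul, ha.1, smul_zero], fun d => by
        rw [smul_smul]; exact ha.2 _⟩ }
  have hb : ∀ b, Q b = ν → B u b = 0 → b ∈ A := fun b hQb hub => ⟨hub, fun c => by
    have hcu : Q ((ν * c) • u) = 0 := by rw [C.smul, hu, mul_zero]
    have hy : Q (b + (ν * c) • u) = ν := by
      rw [C.add, hcu, hQb, map_smul, C.symm, hub]; simp
    have h' := ((h b hQb).root T (h _ hy) (by rw [add_sub_cancel_left]; exact hcu)).2
    rw [add_sub_cancel_left, sGL_smul C hu (by rw [map_smul, hub, smul_zero]), smul_smul] at h'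
    rwa [show ν * c * ν⁻¹ = c by have := X.nu; field_simp] at h'⟩
  obtain ⟨f, hf⟩ := exists_hyp C C.ndeg_top trivial hu0 hu
  set W := perp2 B ⊤ u f
  have hWn : NDeg B W := hf.ndeg C C.ndeg_top
  have hW3 : 3 ≤ finrank F W := by
    have : finrank F (⊤ : Submodule F (ι → F)) ≤ finrank F W + 2 := hf.le_finrank C
    rw [finrank_top, finrank_fintype_fun_eq_card] at this
    have := X.five
    omega
  have huA : u ∈ A := ⟨C.self_zero hu, fun c => by
    rw [show c • u = (0 : ι → F) + c • u by rw [zero_add], sGL_add_self C hu (map_zero _), hone]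
    exact one_mem H⟩
  have hWA : W ≤ A := (span_sing C hWn hW3).trans (Submodule.span_le.mpr fun s ⟨hsW, hQs⟩ => by
    by_cases hs0 : s = 0
    · rw [hs0]; exact A.zero_mem
    obtain ⟨t, ht⟩ := exists_hyp C hWn hsW hs0 hQs
    obtain ⟨z, hz, hQz⟩ := exists_nonsing C (ht.ndeg C hWn) (fun h0 => by
      have := ht.le_finrank C
      rw [h0, finrank_bot] at this
      omega)
    obtain ⟨hzW, hsz, htz⟩ := mem_perp2.mp hz
    have key : ∀ α γ : F, α + γ ^ 2 * Q z = ν → α • s + t + γ • z ∈ A := fun α γ hαγ => hb _ (by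
        simp [C.add, C.smul, hQs, ht.singF, hsz, htz, ht.pair]
        linear_combination hαγ)
      (mem_perp2.mp (W.add_mem (W.add_mem (W.smul_mem _ hsW) ht.memF) (W.smul_mem _ hzW))).2.1
    have h1 := key ν 0 (by ring)
    have h2 := A.smul_mem (2⁻¹ : F) (A.add_mem (key (ν - Q z) 1 (by ring))
      (key (ν - Q z) (-1) (by ring)))
    have h3 := A.smul_mem (-(Q z)⁻¹) (A.sub_mem h2 h1)
    show s ∈ A
    convert h3 using 1
    have := X.two
    match_scalars <;> field_simp <;> ring)
  have haA : a ∈ A := by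
    have hp := hWA (hf.proj C (x := a) trivial)
    rw [hua, zero_smul, sub_zero] at hp
    have := A.add_mem hp (A.smul_mem (B f a) huA)
    rwa [sub_add_cancel] at this
  have := haA.2 1
  rwa [one_smul] at this

end Ctx

end Cfsg.Lib.Linear.FrameSmall
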